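import Groth.Agent.ModEtQCoh.Vanish.Tuples

/-!
# Modules with base change are Cech acyclic on affine families
-/

set_option autoImplicit false
set_option backward.isDefEq.respectTransparency.types false
set_option linter.style.haveILetI false
universe u

open CategoryTheory CategoryTheory.Limits AlgebraicGeometry Opposite AlgSp TensorProduct Groth.ModEtQCoh

noncomputable section

namespace Groth.EtVan

variable {S : Scheme.{u}} {X : Sp S} {E : EtOver X} {κ : Type} {Z : κ → EtOver X} {a : ∀ k, Z k ⟶ E} {n : ℕ}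

/-- The face map between universal objects. -/
theorem exists_faceMap (D : UnivData a n) (D₁ : UnivData a (n + 1)) (c : Fin (n + 2) → κ) (i : Fin (n + 2)) :
    ∃ φ : D₁.obj c ⟶ D.obj (c ∘ i.succAbove),
      tcomp φ (D.tup _) = face (D₁.tup c) i ∧ φ ≫ D.str _ = D₁.str c := by
  have e : (fun j => ((face (D₁.tup c) i).1 j).1) = c ∘ i.succAbove := funext fun j => D₁.tup_fst c _
  have h := D.lift_tup (face (D₁.tup c) i)
  revert h
  generalize D.lift (face (D₁.tup c) i) = φ
  revert φ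
  rw [e]
  intro φ h
  refine ⟨φ, h, ?_⟩
  rw [← D.tup_base, ← D₁.tup_base]
  have h0 : base a ((tcomp φ (D.tup _)).1 0) = base a ((face (D₁.tup c) i).1 0) := by rw [h]
  exact ((Category.assoc _ _ _).symm.trans h0).trans ((D₁.tup c).2 _)

/-- The Cech differential on universal tuples. -/
def diff (M : ModEt X) (D : UnivData a n) (D₁ : UnivData a (n + 1))
    (φ : ∀ c i, D₁.obj c ⟶ D.obj (c ∘ Fin.succAbove i)) (hφ : ∀ c i, φ c i ≫ D.str _ = D₁.str c) :
    (∀ c, SecVia M (D.str c)) →ₗ[fnA E] (∀ c, SecVia M (D₁.str c)) where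
  toFun x c := ∑ i : Fin (n + 2), (-1 : ℤ) ^ (i : ℕ) • resVia M _ _ (φ c i) (hφ c i) (x _)
  map_add' x y := funext fun c => by simp only [Pi.add_apply, map_add, smul_add, Finset.sum_add_distrib]
  map_smul' r x := funext fun c => by
    simp only [Pi.smul_apply, map_smul, RingHom.id_apply, Finset.smul_sum]
    exact Finset.sum_congr rfl fun i _ => smul_comm _ _ _

/-- The base changed differential. -/
def diff' (M : ModEt X) {E' : EtOver X} {U : (Fin (n + 1) → κ) → EtOver X} {U₁ : (Fin (n + 2) → κ) → EtOver X}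
    (p : ∀ c, U c ⟶ E') (p₁ : ∀ c, U₁ c ⟶ E') (φ : ∀ c i, U₁ c ⟶ U (c ∘ Fin.succAbove i))
    (hφ : ∀ c i, φ c i ≫ p _ = p₁ c) : (∀ c, SecVia M (p c)) →ₗ[fnA E'] (∀ c, SecVia M (p₁ c)) where
  toFun x c := ∑ i : Fin (n + 2), (-1 : ℤ) ^ (i : ℕ) • resVia M _ _ (φ c i) (hφ c i) (x _)
  map_add' x y := funext fun c => by simp only [Pi.add_apply, map_add, smul_add, Finset.sum_add_distrib]
  map_smul' r x := funext fun c => by
    simp only [Pi.smul_apply, map_smul, RingHom.id_apply, Finset.smul_sum]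
    exact Finset.sum_congr rfl fun i _ => smul_comm _ _ _

theorem diff_apply (M : ModEt X) (D : UnivData a n) (D₁ : UnivData a (n + 1))
    (φ : ∀ c i, D₁.obj c ⟶ D.obj (c ∘ Fin.succAbove i)) (hφ : ∀ c i, φ c i ≫ D.str _ = D₁.str c)
    (x : ∀ c, SecVia M (D.str c)) (c : Fin (n + 2) → κ) :
    (diff M D D₁ φ hφ x c : sectModEt M _) =
      ∑ i : Fin (n + 2), (-1 : ℤ) ^ (i : ℕ) • (resM M (φ c i) (x _) : sectModEt M _) := rfl

theorem diff'_apply (M : ModEt X) {E' : EtOver X} {U : (Fin (n + 1) → κ) → EtOver X}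
    {U₁ : (Fin (n + 2) → κ) → EtOver X} (p : ∀ c, U c ⟶ E') (p₁ : ∀ c, U₁ c ⟶ E')
    (φ : ∀ c i, U₁ c ⟶ U (c ∘ Fin.succAbove i)) (hφ : ∀ c i, φ c i ≫ p _ = p₁ c) (x : ∀ c, SecVia M (p c))
    (c : Fin (n + 2) → κ) :
    (diff' M p p₁ φ hφ x c : sectModEt M _) =
      ∑ i : Fin (n + 2), (-1 : ℤ) ^ (i : ℕ) • (resM M (φ c i) (x _) : sectModEt M _) := rfl

theorem isExact_of_hasBC [Finite κ] [IsAffine E.obj.left.left] [∀ k, IsAffine (Z k).obj.left.left] {M : ModEt X}
    (hM : HasBC M) (hcov : JointlySurj a) (n : ℕ) : IsExact ((toAbEt X).obj M).obj a n := by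
  obtain ⟨D⟩ := nonempty_univData (a := a) n
  obtain ⟨D₁⟩ := nonempty_univData (a := a) (n + 1)
  choose φ hφt hφ using exists_faceMap D D₁
  have : ∀ c, IsAffine (D.obj c).obj.left.left := D.affine
  have : ∀ c, IsAffine (D₁.obj c).obj.left.left := D₁.affine
  intro δ hδ
  let cc : ∀ c, SecVia M (D₁.str c) := fun c => δ.val _ (D₁.tup c)
  suffices h : cc ∈ LinearMap.range (diff M D D₁ φ hφ) by
    obtain ⟨x, hx⟩ := h
    let b : Cochain ((toAbEt X).obj M).obj a n := ofVals D fun c => x c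
    have hb : ∀ c, b.val _ (D.tup c) = x c := fun c => by
      have key : ∀ (W : EtOver X) (y : Fam a n W) (g : W ⟶ D.obj c), tcomp g (D.tup c) = y →
          (fun j => (y.1 j).1) = c → b.val W y = resM M g (x c) := by
        rintro W y g hg rfl
        exact congrArg (fun h => resM M h (x fun j => (y.1 j).1)) (D.hom_ext _ ((D.lift_tup y).trans hg.symm))
      exact (key _ (D.tup c) (𝟙 _) (Subtype.ext (funext fun i => by simp [tcomp])) (funext (D.tup_fst c))).trans
        (resM_id M _)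
    refine ⟨b, eq_of_univ D₁ fun c => ?_⟩
    refine Eq.trans ?_ (congrFun hx c)
    refine Eq.trans ?_ (diff_apply M D D₁ φ hφ x c).symm
    refine Finset.sum_congr rfl fun i _ => congrArg (((-1 : ℤ) ^ (i : ℕ)) • ·) ?_
    rw [← hφt c i, ← b.nat, hb]
    rfl
  rw [← Submodule.Quotient.mk_eq_zero]
  let : ∀ k, Algebra (fnA E) (fnA (Z k)) := fun k => (resA (a k)).toAlgebra
  have : ∀ k, Module.Flat (fnA E) (fnA (Z k)) := fun k => flat_resA (a k)
  refine eq_zero_of_forall_one_tmul (B := fun k => fnA (Z k)) (fun m hm => exists_prime_over hcov m) fun k => ?_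
  let g := a k
  let p' : ∀ c, EtOver.pullbackObj g (D.str c) ⟶ Z k := fun c => EtOver.pullbackFst g (D.str c)
  let p₁' : ∀ c, EtOver.pullbackObj g (D₁.str c) ⟶ Z k := fun c => EtOver.pullbackFst g (D₁.str c)
  have e : ∀ c i, ∃ v : EtOver.pullbackObj g (D₁.str c) ⟶ EtOver.pullbackObj g (D.str (c ∘ Fin.succAbove i)),
      v ≫ p' _ = p₁' c ∧ v ≫ EtOver.pullbackSnd g _ = EtOver.pullbackSnd g (D₁.str c) ≫ φ c i := fun c i => by
    have w : p₁' c ≫ g = (EtOver.pullbackSnd g (D₁.str c) ≫ φ c i) ≫ D.str _ := by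
      rw [Category.assoc, hφ]; exact EtOver.pullback_condition g (D₁.str c)
    exact ⟨(EtOver.isPullback g (D.str _)).lift _ _ w, (EtOver.isPullback g (D.str _)).lift_fst _ _ w,
      (EtOver.isPullback g (D.str _)).lift_snd _ _ w⟩
  choose φ' hφ' hφ'' using e
  let qq := qPi M g D.str p' (fun c => EtOver.pullbackSnd g (D.str c)) fun c =>
    (EtOver.pullback_condition g (D.str c)).symm
  let qq₁ := qPi M g D₁.str p₁' (fun c => EtOver.pullbackSnd g (D₁.str c)) fun c =>
    (EtOver.pullback_condition g (D₁.str c)).symm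
  have hd : ∀ x, qq₁ (diff M D D₁ φ hφ x) = diff' M p' p₁' φ' hφ' (qq x) := fun x => funext fun c => by
    refine Eq.trans ?_ (diff'_apply M p' p₁' φ' hφ' (qq x) c).symm
    refine ((qPi_apply M g D₁.str p₁' _ _ _ c).trans (congrArg (resM M _) (diff_apply M D D₁ φ hφ x c))).trans ?_
    simp only [map_sum, map_zsmul]
    refine Finset.sum_congr rfl fun i _ => congrArg (((-1 : ℤ) ^ (i : ℕ)) • ·) ?_
    rw [← resM_comp, qPi_apply, ← resM_comp, hφ'']
  have hw : ∀ c, base a (⟨k, p' c⟩ : Leg Z _) = base a ((tcomp (EtOver.pullbackSnd g (D.str c)) (D.tup c)).1 0) :=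
    fun c => (EtOver.pullback_condition g (D.str c)).trans
      (((congrArg (EtOver.pullbackSnd g (D.str c) ≫ ·) (D.tup_base c)).symm).trans (Category.assoc _ _ _).symm)
  let b' : ∀ c, SecVia M (p' c) := fun c =>
    δ.val _ (tcons ⟨k, p' c⟩ (tcomp (EtOver.pullbackSnd g (D.str c)) (D.tup c)) (hw c))
  obtain ⟨z, hz⟩ := (isBC_qPi hM g D.str).2 b'
  have key : mapN (resA g) (diff M D D₁ φ hφ) z = (1 : fnA (Z k)) ⊗ₜ[fnA E] cc := by
    refine (isBC_qPi hM g D₁.str).1 ?_
    refine (bcLift_mapN qq qq₁ (diff M D D₁ φ hφ) (diff' M p' p₁' φ' hφ') hd z).trans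
      ((congrArg (diff' M p' p₁' φ' hφ') hz).trans ?_)
    refine Eq.trans ?_ ((bcLift_tmul qq₁ 1 cc).trans (one_smul _ _)).symm
    refine funext fun c => (diff'_apply M p' p₁' φ' hφ' b' c).trans ?_
    refine Eq.trans ?_ (qPi_apply M g D₁.str p₁' _ _ cc c).symm
    let y := tcomp (EtOver.pullbackSnd g (D₁.str c)) (D₁.tup c)
    have hl : base a (⟨k, p₁' c⟩ : Leg Z _) = base a (y.1 0) :=
      (EtOver.pullback_condition g (D₁.str c)).trans
        (((congrArg (EtOver.pullbackSnd g (D₁.str c) ≫ ·) (D₁.tup_base c)).symm).trans (Category.assoc _ _ _).symm)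
    have h0 := hδ _ (tcons ⟨k, p₁' c⟩ y hl)
    simp only [dVal, Fin.sum_univ_succ (n := n + 2), face_tcons_zero] at h0
    have hs : ∀ i : Fin (n + 2), (resM M (φ' c i) (b' (c ∘ i.succAbove)) : sectModEt M _) =
        δ.val _ (face (tcons ⟨k, p₁' c⟩ y hl) i.succ) := fun i => by
      refine (δ.nat (φ' c i) _).trans (congrArg (δ.val _) ?_)
      rw [tcomp_tcons, face_tcons_succ]
      have e₂ : tcomp (φ' c i) (tcomp (EtOver.pullbackSnd g (D.str _)) (D.tup (c ∘ i.succAbove))) = face y i := by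
        rw [← tcomp_face, ← hφt c i]
        refine Subtype.ext (funext fun j => ?_)
        simp only [tcomp]
        rw [← Category.assoc, hφ'', Category.assoc]
      simp only [e₂, hφ']
    simp only [hs]
    simp only [Fin.val_zero, pow_zero, one_smul, Fin.val_succ, pow_succ, mul_neg, mul_one, neg_smul,
      Finset.sum_neg_distrib, add_neg_eq_zero] at h0
    exact h0.symm.trans (δ.nat (EtOver.pullbackSnd g (D₁.str c)) (D₁.tup c)).symm
  show (LinearMap.lTensor (fnA (Z k)) (LinearMap.range (diff M D D₁ φ hφ)).mkQ) ((1 : fnA (Z k)) ⊗ₜ cc) = 0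
  rw [← key]
  exact mapN_mapN_eq_zero (resA g) (LinearMap.range_mkQ_comp _) z

/-- Quasi-coherent modules are Cech acyclic. -/
theorem cechAcyclic_toAbEt (M : ModEt X) [M.IsQuasicoherent] : CechAcyclic ((toAbEt X).obj M).obj :=
  fun _ _ _ _ _ _ hcov n => isExact_of_hasBC (hasBC_of_isQuasicoherent M) hcov n

end Groth.EtVan

end
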