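import Groth.Agent.ModEtQCoh.Vanish.Inj
import Groth.Agent.ModEtQCoh.Vanish.QCoh
import Mathlib.CategoryTheory.Sites.SheafCohomology.Basic
import Mathlib.Algebra.Homology.DerivedCategory.Ext.ExactSequences

/-!
# Cech acyclic sheaves: exactness on affine objects and vanishing of cohomology
-/

set_option autoImplicit false
set_option backward.isDefEq.respectTransparency.types false
set_option linter.style.haveILetI false
universe u

open CategoryTheory CategoryTheory.Limits AlgebraicGeometry Opposite AlgSp Groth.ModEtQCoh Abelian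

noncomputable section

namespace Groth.EtVan

variable {S : Scheme.{u}} {X : Sp S}

/-- Evaluation at an object. -/
abbrev evalAt (W : EtOver X) : AbEt X ⥤ AddCommGrpCat.{u + 1} :=
  sheafToPresheaf (etTop X) AddCommGrpCat.{u + 1} ⋙ (evaluation _ _).obj (op W)

theorem app_injective {F G : AbEt X} (f : F ⟶ G) [Mono f] (W : EtOver X) :
    Function.Injective (f.hom.app (op W)) :=
  (AddCommGrpCat.mono_iff_injective _).1 (inferInstance : Mono ((evalAt W).map f))

theorem exists_preimage {C : ShortComplex (AbEt X)} (hC : C.ShortExact) {W : EtOver X}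
    {y : C.X₂.obj.obj (op W)} (hy : C.g.hom.app (op W) y = 0) : ∃ x, C.f.hom.app (op W) x = y := by
  haveI : (evalAt W).Additive := ⟨fun {_ _ _ _} => rfl⟩
  haveI := hC.mono_f
  have h2 : (C.map (evalAt W)).Exact :=
    ShortComplex.exact_of_f_is_kernel _ (KernelFork.mapIsLimit _ hC.fIsKernel (evalAt W))
  exact (ShortComplex.ab_exact_iff _).1 h2 y hy

theorem app_comp_eq_zero {C : ShortComplex (AbEt X)} {W : EtOver X} (x : C.X₁.obj.obj (op W)) :
    C.g.hom.app (op W) (C.f.hom.app (op W) x) = 0 :=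
  congrArg (fun t : C.X₁ ⟶ C.X₃ => t.hom.app (op W) x) C.zero

section sheaf

variable (F : AbEt X)

theorem map_map {W W' W'' : EtOver X} (h' : W'' ⟶ W') (h : W' ⟶ W) (s : F.obj.obj (op W)) :
    F.obj.map h'.op (F.obj.map h.op s) = F.obj.map (h' ≫ h).op s := by
  rw [op_comp, Functor.map_comp]; rfl

theorem sheaf_ext {E : EtOver X} {ι : Type*} {Y : ι → EtOver X} {g : ∀ i, Y i ⟶ E} (hg : JointlySurj g)
    {s t : F.obj.obj (op E)} (h : ∀ i, F.obj.map (g i).op s = F.obj.map (g i).op t) : s = t := by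
  have hF : Presieve.IsSheaf (etTop X) (F.obj ⋙ forget AddCommGrpCat) :=
    (isSheaf_iff_isSheaf_of_type _ _).1 (Presheaf.isSheaf_comp_of_isSheaf _ _ _ F.property)
  refine (hF _ (ofArrows_mem_etTop Y g hg)).isSeparatedFor.ext fun Z f hf => ?_
  obtain ⟨W, a, b, ⟨i⟩, rfl⟩ := hf
  show F.obj.map (a ≫ g i).op s = F.obj.map (a ≫ g i).op t
  rw [← map_map, ← map_map, h i]

theorem exists_glue {E : EtOver X} {ι : Type*} {Y : ι → EtOver X} {g : ∀ i, Y i ⟶ E} (hg : JointlySurj g)
    (y : ∀ i, F.obj.obj (op (Y i)))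
    (hy : ∀ i j {W : EtOver X} (p : W ⟶ Y i) (q : W ⟶ Y j), p ≫ g i = q ≫ g j →
      F.obj.map p.op (y i) = F.obj.map q.op (y j)) :
    ∃ s : F.obj.obj (op E), ∀ i, F.obj.map (g i).op s = y i := by
  have hF : Presieve.IsSheaf (etTop X) (F.obj ⋙ forget AddCommGrpCat) :=
    (isSheaf_iff_isSheaf_of_type _ _).1 (Presheaf.isSheaf_comp_of_isSheaf _ _ _ F.property)
  obtain ⟨s, hs, -⟩ := (Presieve.isSheafFor_arrows_iff (F.obj ⋙ forget AddCommGrpCat) g).1
    ((Presieve.isSheafFor_iff_generate _).2 (hF _ (ofArrows_mem_etTop Y g hg))) y fun i j W p q h => hy i j p q h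
  exact ⟨s, hs⟩

end sheaf

/-- Surjectivity on affine objects along an acyclic kernel. -/
theorem sections_surjective {C : ShortComplex (AbEt X)} (hC : C.ShortExact) (h₁ : CechAcyclic C.X₁.obj)
    (E : EtOver X) [IsAffine E.obj.left.left] : Function.Surjective (C.g.hom.app (op E)) := by
  haveI := hC.mono_f
  haveI := hC.epi_g
  intro s
  haveI : Sheaf.IsLocallySurjective C.g :=
    (Sheaf.isLocallySurjective_iff_epi' AddCommGrpCat.{u + 1} C.g).2 inferInstance
  obtain ⟨m, Z, a, hZ, hcov, hl⟩ := exists_affine_cover (Presheaf.imageSieve_mem (etTop X) C.g.hom s)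
  choose t ht using fun k => (hl k : ∃ t, C.g.hom.app (op (Z k)) t = C.X₃.obj.map (a k).op s)
  let τ : Cochain C.X₂.obj a 0 :=
    ⟨fun W y => C.X₂.obj.map (y.1 0).2.op (t _), fun h y => map_map C.X₂ h (y.1 0).2 _⟩
  have hτ : ∀ W (y : Fam a 0 W), C.g.hom.app (op W) (τ.val W y) = C.X₃.obj.map (base a (y.1 0)).op s := fun W y => by
    refine (ConcreteCategory.congr_hom (C.g.hom.naturality (y.1 0).2.op) (t _)).trans ?_
    show C.X₃.obj.map (y.1 0).2.op (C.g.hom.app _ (t _)) = _
    rw [ht, map_map]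
  have hd : ∀ W (y : Fam a 1 W), C.g.hom.app (op W) (dVal τ W y) = 0 := fun W y => by
    have he : ∀ x, base a ((face y x).1 0) = base a (y.1 0) := fun x => y.2 _
    simp only [dVal, map_sum, map_zsmul, hτ, he]
    show ∑ x : Fin 2, (-1 : ℤ) ^ (x : ℕ) • _ = _
    simp [Fin.sum_univ_two]
  choose c hc using fun W y => exists_preimage hC (hd W y)
  let δ : Cochain C.X₁.obj a 1 := ⟨c, fun {W W'} h y => app_injective C.f W' (by
    refine (ConcreteCategory.congr_hom (C.f.hom.naturality h.op) (c W y)).trans ?_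
    show C.X₂.obj.map h.op (C.f.hom.app _ (c W y)) = _
    rw [hc, hc, dVal_nat])⟩
  obtain ⟨b, hb⟩ := h₁ E m Z a hcov 0 δ fun W y => app_injective C.f W (by
    rw [map_zero, ← dVal_cmap C.f.hom δ W y]
    refine (Finset.sum_congr rfl fun i _ => ?_).trans (dVal_dVal τ W y)
    exact congrArg _ (hc W _))
  let τ' : ∀ W, Fam a 0 W → C.X₂.obj.obj (op W) := fun W y => τ.val W y - C.f.hom.app (op W) (b.val W y)
  have hτ' : ∀ {W W' : EtOver X} (h : W' ⟶ W) (y : Fam a 0 W),
      C.X₂.obj.map h.op (τ' W y) = τ' W' (tcomp h y) := fun {W W'} h y => by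
    simp only [τ', map_sub, τ.nat]
    congr 1
    rw [← b.nat]
    exact (ConcreteCategory.congr_hom (C.f.hom.naturality h.op) (b.val W y)).symm
  let one : ∀ k, Fam a 0 (Z k) := fun k => ⟨fun _ => ⟨k, 𝟙 _⟩, fun _ => rfl⟩
  obtain ⟨s', hs'⟩ := exists_glue C.X₂ hcov (fun k => τ' (Z k) (one k)) fun i j W p q h => by
    let y : Fam a 1 W := ⟨![⟨i, p⟩, ⟨j, q⟩], fun l => by
      refine Fin.cases rfl (fun l' => ?_) l
      rw [Fin.fin_one_eq_zero l']
      exact h.symm⟩
    rw [hτ', hτ']
    have e0 : tcomp p (one i) = face y 1 := Subtype.ext (funext fun l => by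
      rw [Fin.fin_one_eq_zero l]; simp [tcomp, one, face, y])
    have e1 : tcomp q (one j) = face y 0 := Subtype.ext (funext fun l => by
      rw [Fin.fin_one_eq_zero l]; simp [tcomp, one, face, y])
    rw [e0, e1]
    have h0 : dVal τ W y = C.f.hom.app (op W) (dVal b W y) := by rw [hb]; exact (hc W y).symm
    change (∑ x : Fin 2, (-1 : ℤ) ^ (x : ℕ) • τ.val W (face y x)) =
      C.f.hom.app (op W) (∑ x : Fin 2, (-1 : ℤ) ^ (x : ℕ) • b.val W (face y x)) at h0
    simp only [map_sum, map_zsmul, Fin.sum_univ_two, Fin.val_zero, Fin.val_one, pow_zero, pow_one,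
      one_smul, neg_smul] at h0
    rw [map_add, map_neg] at h0
    simp only [τ']
    rw [← sub_eq_zero, ← sub_eq_zero.2 h0.symm]
    abel
  refine ⟨s', sheaf_ext C.X₃ hcov fun k => ?_⟩
  refine (ConcreteCategory.congr_hom (C.g.hom.naturality (a k).op) s').symm.trans ?_
  show C.g.hom.app _ (C.X₂.obj.map (a k).op s') = _
  rw [hs', map_sub, hτ, app_comp_eq_zero, sub_zero]
  simp [one]

/-- The cokernel of acyclic sheaves is acyclic. -/
theorem cechAcyclic_of_shortExact {C : ShortComplex (AbEt X)} (hC : C.ShortExact) (h₁ : CechAcyclic C.X₁.obj)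
    (h₂ : CechAcyclic C.X₂.obj) : CechAcyclic C.X₃.obj := by
  intro E _ m Z _ a hcov n δ hδ
  haveI := hC.mono_f
  obtain ⟨D⟩ := nonempty_univData (a := a) (n + 1)
  have : ∀ c, IsAffine (D.obj c).obj.left.left := D.affine
  choose t ht using fun c => sections_surjective hC h₁ (D.obj c) (δ.val _ (D.tup c))
  let θ : Cochain C.X₂.obj a (n + 1) := ofVals D t
  have hθ : ∀ W y, C.g.hom.app (op W) (θ.val W y) = δ.val W y := fun W y => by
    refine (ConcreteCategory.congr_hom (C.g.hom.naturality (D.lift y).op) (t _)).trans ?_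
    show C.X₃.obj.map (D.lift y).op (C.g.hom.app _ (t _)) = _
    rw [ht, ← val_eq_lift]
  have hd : ∀ W y, C.g.hom.app (op W) (dVal θ W y) = 0 := fun W y => by
    rw [← dVal_cmap C.g.hom θ W y]
    exact (Finset.sum_congr rfl fun i _ => congrArg _ (hθ W _)).trans (hδ W y)
  choose c hc using fun W y => exists_preimage hC (hd W y)
  let ε : Cochain C.X₁.obj a (n + 2) := ⟨c, fun {W W'} h y => app_injective C.f W' (by
    refine (ConcreteCategory.congr_hom (C.f.hom.naturality h.op) (c W y)).trans ?_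
    show C.X₂.obj.map h.op (C.f.hom.app _ (c W y)) = _
    rw [hc, hc, dVal_nat])⟩
  obtain ⟨β, hβ⟩ := h₁ E m Z a hcov (n + 1) ε fun W y => app_injective C.f W (by
    rw [map_zero, ← dVal_cmap C.f.hom ε W y]
    exact (Finset.sum_congr rfl fun i _ => congrArg _ (hc W _)).trans (dVal_dVal θ W y))
  let θ' : Cochain C.X₂.obj a (n + 1) :=
    ⟨fun W y => θ.val W y - (cmap C.f.hom β).val W y, fun h y => by rw [map_sub, θ.nat, (cmap C.f.hom β).nat]⟩
  obtain ⟨b, hb⟩ := h₂ E m Z a hcov n θ' fun W y => by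
    refine ((Finset.sum_congr rfl fun i _ => zsmul_sub _ _ _).trans (Finset.sum_sub_distrib _ _)).trans ?_
    rw [sub_eq_zero]
    refine Eq.trans ?_ (dVal_cmap C.f.hom β W y).symm
    rw [hβ]
    exact (hc W y).symm
  refine ⟨cmap C.g.hom b, fun W y => ?_⟩
  rw [dVal_cmap, hb, map_sub, hθ]
  exact (congrArg _ (app_comp_eq_zero (β.val W y))).trans (sub_zero _)

theorem cechAcyclic_of_injective (I : AbEt X) [Injective I] : CechAcyclic I.obj :=
  haveI : Injective ((sheafToPresheaf (etTop X) AddCommGrpCat.{u + 1}).obj I) :=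
    Injective.injective_of_adjoint (sheafificationAdjunction (etTop X) AddCommGrpCat.{u + 1}) I
  @cechAcyclic_injective _ _ I.obj this

/-- Cohomology of an acyclic sheaf on a space with an affine final chart vanishes. -/
theorem subsingleton_HEt_of_cechAcyclic {T : EtOver X} (hT : IsTerminal T) [IsAffine T.obj.left.left] :
    ∀ (n : ℕ) (F : AbEt X), CechAcyclic F.obj → Subsingleton (HEt X F (n + 1)) := by
  intro n
  induction n with
  | zero =>
    intro F hF
    let C := ShortComplex.mk (Injective.ι F) (cokernel.π (Injective.ι F)) (cokernel.condition _)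
    have hC : C.ShortExact :=
      { exact := ShortComplex.exact_of_g_is_cokernel _ (cokernelIsCokernel (Injective.ι F)) }
    refine subsingleton_of_forall_eq 0 fun x => ?_
    obtain ⟨y, rfl⟩ := Ext.covariant_sequence_exact₁ _ hC x (Ext.eq_zero_of_injective _) (zero_add 1)
    obtain ⟨φ, rfl⟩ := Ext.addEquiv₀.symm.surjective y
    let adj := constantSheafAdj (etTop X) AddCommGrpCat.{u + 1} hT
    let e := fun (G : AddCommGrpCat.{u + 1}) => AddCommGrpCat.uliftZMultiplesAddEquiv G
    obtain ⟨t, ht⟩ := sections_surjective hC hF T (e _ (adj.homEquiv _ _ φ))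
    let ψ := (adj.homEquiv _ _).symm ((e _).symm t)
    have hψ : ψ ≫ C.g = φ := by
      refine (adj.homEquiv _ _).injective ?_
      rw [Adjunction.homEquiv_naturality_right, Equiv.apply_symm_apply]
      refine (e _).injective (Eq.trans ?_ ht)
      refine Eq.trans ?_ (congrArg (C.g.hom.app (op T)) ((e _).apply_symm_apply t))
      rfl
    rw [← hψ]
    simp [Ext.addEquiv₀, Ext.homEquiv₀, ← Ext.mk₀_comp_mk₀]
  | succ n ih =>
    intro F hF
    let C := ShortComplex.mk (Injective.ι F) (cokernel.π (Injective.ι F)) (cokernel.condition _)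
    have hC : C.ShortExact :=
      { exact := ShortComplex.exact_of_g_is_cokernel _ (cokernelIsCokernel (Injective.ι F)) }
    have := ih _ (cechAcyclic_of_shortExact hC hF (cechAcyclic_of_injective _))
    refine subsingleton_of_forall_eq 0 fun x => ?_
    obtain ⟨y, rfl⟩ := Ext.covariant_sequence_exact₁ _ hC x (Ext.eq_zero_of_injective _) rfl
    rw [Subsingleton.elim y 0, Ext.zero_comp]

end Groth.EtVan

end

namespace Groth.EtVan

open CategoryTheory CategoryTheory.Limits AlgebraicGeometry Opposite AlgSp Groth.ModEtQCoh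

variable {S : Scheme.{u}} {X : Sp S}

theorem repWith_etale_of_isIso {T : Over S} (f : (yon S).obj T ⟶ X) [IsIso f] : RepWith @Etale f := by
  refine ⟨fun {a} g => ?_, fun {a b} g fst snd sq => ?_⟩
  · refine ⟨a, 𝟙 a, g ≫ inv f, ?_⟩
    haveI : IsIso ((yon S).map (𝟙 a)) := inferInstance
    exact IsPullback.of_vert_isIso ⟨by simp⟩
  · haveI : IsIso ((yon S).map snd) := sq.isIso_snd_of_isIso
    haveI : IsIso snd := isIso_of_fully_faithful (yon S) snd
    haveI : IsIso snd.left := inferInstanceAs (IsIso ((Over.forget S).map snd))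
    exact (inferInstance : Etale snd.left)

/-- Quasi-coherent modules on an affine scheme have no higher etale cohomology. -/
theorem subsingleton_HModEt_of_iso (T : Over S) [IsAffine T.left] (e : (yon S).obj T ≅ X) (M : ModEt X)
    [M.IsQuasicoherent] (n : ℕ) : Subsingleton (HModEt X M (n + 1)) := by
  let E₀ : EtOver X := EtOver.mk e.hom (repWith_etale_of_isIso e.hom)
  have key : ∀ E : EtOver X, ∃ g : E.obj.left ⟶ T, (yon S).map g ≫ e.hom = E.obj.hom := fun E => by
    obtain ⟨g, hg⟩ := (yon S).map_surjective (E.obj.hom ≫ e.inv)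
    exact ⟨g, by rw [hg, Category.assoc, e.inv_hom_id, Category.comp_id]⟩
  choose g hg using key
  have hT : IsTerminal E₀ := IsTerminal.ofUniqueHom (fun E => EtOver.homMk (g E) (hg E)) fun E m =>
    EtOver.hom_ext _ _ ((yon S).map_injective ((cancel_mono e.hom).1 ((EtOver.w m).trans (hg E).symm)))
  haveI : IsAffine E₀.obj.left.left := ‹IsAffine T.left›
  exact subsingleton_HEt_of_cechAcyclic hT n _ (cechAcyclic_toAbEt M)

end Groth.EtVan
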