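import Groth.Agent.ModEtQCoh.Vanish.PushAb
import Groth.Agent.ModEtQCoh.FinPres
import Groth.Agent.ModEtQCoh.PullEt
import Groth.Agent.SiteCohomology.ExtAdjunction

/-!
# Cohomology of direct images along affine morphisms
-/

set_option autoImplicit false
set_option backward.isDefEq.respectTransparency.types false
set_option linter.style.haveILetI false
universe w w' v v' u u'

open CategoryTheory CategoryTheory.Limits AlgebraicGeometry Opposite AlgSp Groth.ModEtQCoh Abelian

noncomputable section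

namespace Groth.EtVan

section General

variable {C : Type u} [Category.{v} C] [Abelian C] [EnoughInjectives C] [HasExt.{w} C]
  {D : Type u'} [Category.{v'} D] [Abelian D] [HasExt.{w'} D] {L : D ⥤ C} {R : C ⥤ D}

/-- `Ext(A, R F) = Ext(L A, F)` for an `R`-acyclic object when `R` keeps injectives. -/
theorem nonempty_ext_equiv_of_acyclic [HasInjectiveResolutions C] (adj : L ⊣ R) [R.Additive]
    [PreservesFiniteLimits R] (hinj : ∀ I : C, Injective I → Injective (R.obj I)) (A : D) (F : C)
    (hac : ∀ k : ℕ, IsZero ((R.rightDerived (k + 1)).obj F)) (n : ℕ) :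
    Nonempty (Ext A (R.obj F) n ≃+ Ext (L.obj A) F n) := by
  let h : ∀ (X : C), (L.obj A ⟶ X) →+ (A ⟶ R.obj X) := fun X =>
    AddMonoidHom.mk' (adj.homEquiv A X) fun a b => by
      simp only [Adjunction.homEquiv_unit, Functor.map_add, Preadditive.comp_add]
  cases n with
  | zero =>
    exact ⟨(Ext.addEquiv₀.trans (AddEquiv.ofBijective (h F)
      (adj.homEquiv A F).bijective).symm).trans Ext.addEquiv₀.symm⟩
  | succ m =>
    let P : InjectiveResolution F := injectiveResolution F
    let Q : InjectiveResolution (R.obj F) := Groth.SiteCohomology.mapInjectiveResolution R P hinj fun k =>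
      (HomologicalComplex.exactAt_iff_isZero_homology _ _).2
        (IsZero.of_iso (hac k) (P.isoRightDerivedObj R (k + 1)).symm)
    let Z : AddSubgroup (L.obj A ⟶ P.cocomplex.X (m + 1)) :=
      AddMonoidHom.ker (AddMonoidHom.mk' (fun f => f ≫ P.cocomplex.d (m + 1) (m + 2))
        fun a b => Preadditive.add_comp ..)
    have hZ : ∀ f : Z, h _ f.1 ≫ Q.cocomplex.d (m + 1) (m + 2) = 0 := fun f => by
      change adj.homEquiv _ _ f.1 ≫ R.map (P.cocomplex.d (m + 1) (m + 2)) = 0
      rw [← adj.homEquiv_naturality_right, show f.1 ≫ _ = 0 from f.2]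
      exact (h _).map_zero
    let ψ₁ : Z →+ Ext (L.obj A) F (m + 1) :=
      AddMonoidHom.mk' (fun f => P.extMk f.1 (m + 2) rfl f.2) fun a b =>
        (P.add_extMk _ _ _ _ a.2 b.2).symm
    let ψ₂ : Z →+ Ext A (R.obj F) (m + 1) :=
      AddMonoidHom.mk' (fun f => Q.extMk (h _ f.1) (m + 2) rfl (hZ f)) fun a b => by
        rw [Q.add_extMk]
        simp only [AddSubgroup.coe_add, map_add]
        rfl
    have hs₁ : Function.Surjective ψ₁ := fun e => by
      obtain ⟨f, hf, e'⟩ := P.extMk_surjective e (m + 2) rfl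
      exact ⟨⟨f, hf⟩, e'⟩
    have hs₂ : Function.Surjective ψ₂ := fun e => by
      obtain ⟨f, hf, e'⟩ := Q.extMk_surjective e (m + 2) rfl
      obtain ⟨f', rfl⟩ := (adj.homEquiv A _).surjective f
      refine ⟨⟨f', ?_⟩, e'⟩
      refine (adj.homEquiv A _).injective ?_
      exact (adj.homEquiv_naturality_right f' _).trans (hf.trans (h _).map_zero.symm)
    have hker : ψ₁.ker = ψ₂.ker := by
      ext f
      change P.extMk f.1 (m + 2) rfl f.2 = 0 ↔ Q.extMk (h _ f.1) (m + 2) rfl (hZ f) = 0
      rw [P.extMk_eq_zero_iff _ _ _ _ m rfl, Q.extMk_eq_zero_iff _ _ _ _ m rfl]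
      constructor
      · rintro ⟨g, hg⟩
        refine ⟨h _ g, ?_⟩
        rw [← hg]
        exact (adj.homEquiv_naturality_right g _).symm
      · rintro ⟨g, hg⟩
        obtain ⟨g', rfl⟩ := (adj.homEquiv A _).surjective g
        exact ⟨g', (adj.homEquiv A _).injective ((adj.homEquiv_naturality_right g' _).trans hg)⟩
    exact ⟨((QuotientAddGroup.quotientKerEquivOfSurjective ψ₂ hs₂).symm.trans
      (QuotientAddGroup.quotientAddEquivOfEq hker.symm)).trans
      (QuotientAddGroup.quotientKerEquivOfSurjective ψ₁ hs₁)⟩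

end General

end Groth.EtVan

namespace Groth.EtVan

variable {S : Scheme.{u}} {X Y : Sp S} {f : X ⟶ Y} (hf : Representable f)

/-- Every object is covered by objects mapping to base changes of objects. -/
theorem exists_cover_bc (hY : IsAlgSpace Y) (W : EtOver X) :
    ∃ (ι : Type (u + 1)) (V : ι → EtOver X) (g : ∀ i, V i ⟶ W),
      Sieve.ofArrows V g ∈ etTop X W ∧ ∀ i, ∃ E : EtOver Y, Nonempty (V i ⟶ EtOver.bcObj hf E) := by
  have h := coversTop_bc_affine hf hY W
  let R := Sieve.ofObjects (fun E : {E : EtOver Y // IsAffine E.obj.left.left} => EtOver.bcObj hf E.1) W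
  refine ⟨Σ V : EtOver X, {g : V ⟶ W // R g}, fun i => i.1, fun i => i.2.1,
    (etTop X).superset_covering (fun V g hg =>
      Sieve.ofArrows_mk (fun i : Σ V : EtOver X, {g : V ⟶ W // R g} => i.1) (fun i => i.2.1) ⟨V, g, hg⟩) h, fun i => ?_⟩
  obtain ⟨E, hE⟩ := (Sieve.mem_ofObjects_iff _ _).1 i.2.2
  exact ⟨E.1, hE⟩

/-- Presheaf maps from a constant presheaf to a sheaf are determined on base changes of objects, and any
natural family there extends. -/
theorem exists_unique_extend (hY : IsAlgSpace Y) (A : AddCommGrpCat.{u + 1}) (F : AbEt X)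
    (χ : (Functor.const (EtOver Y)ᵒᵖ).obj A ⟶ (EtOver.bc hf).op ⋙ F.obj) :
    ∃! ψ : (Functor.const (EtOver X)ᵒᵖ).obj A ⟶ F.obj, Functor.whiskerLeft (EtOver.bc hf).op ψ = χ := by
  have hnat : ∀ {E E' : EtOver Y} (k : E' ⟶ E) (a : A),
      F.obj.map ((EtOver.bc hf).map k).op (χ.app (op E) a) = χ.app (op E') a := fun k a =>
    (ConcreteCategory.congr_hom (χ.naturality k.op) a).symm
  have key : ∀ {W : EtOver X} (E₁ E₂ : EtOver Y) (p : W ⟶ EtOver.bcObj hf E₁) (q : W ⟶ EtOver.bcObj hf E₂) (a : A),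
      F.obj.map p.op (χ.app (op E₁) a) = F.obj.map q.op (χ.app (op E₂) a) := by
    intro W E₁ E₂ p q a
    let hl := (isLimitMapConeBinaryFanEquiv _ _ _) (isLimitOfPreserves (EtOver.bc hf) (EtOver.prodIsLimit E₁ E₂))
    obtain ⟨l, hl₁, hl₂⟩ := BinaryFan.IsLimit.lift' hl p q
    change l ≫ (EtOver.bc hf).map (EtOver.prodFst E₁ E₂) = p at hl₁
    change l ≫ (EtOver.bc hf).map (EtOver.prodSnd E₁ E₂) = q at hl₂
    subst hl₁ hl₂
    exact ((map_map F l _ _).symm.trans ((congrArg (F.obj.map l.op) ((hnat _ a).trans (hnat _ a).symm)).trans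
      (map_map F l _ _)))
  choose ι V g hg hE using exists_cover_bc hf hY
  choose E hV using hE
  have hF : Presieve.IsSheaf (etTop X) (F.obj ⋙ CategoryTheory.forget AddCommGrpCat) :=
    (isSheaf_iff_isSheaf_of_type _ _).1 (Presheaf.isSheaf_comp_of_isSheaf _ _ _ F.property)
  have hsep : ∀ (W : EtOver X) {s t : F.obj.obj (op W)},
      (∀ i, F.obj.map (g W i).op s = F.obj.map (g W i).op t) → s = t := fun W s t h => by
    refine (hF _ (hg W)).isSeparatedFor.ext fun Z k hk => ?_
    obtain ⟨T, a, b, ⟨i⟩, rfl⟩ := hk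
    show F.obj.map (a ≫ g W i).op s = F.obj.map (a ≫ g W i).op t
    rw [← map_map, ← map_map, h i]
  have hglue : ∀ (W : EtOver X) (a : A), ∃ s : F.obj.obj (op W),
      ∀ i, F.obj.map (g W i).op s = F.obj.map (hV W i).some.op (χ.app (op (E W i)) a) := fun W a => by
    obtain ⟨s, hs, -⟩ := (Presieve.isSheafFor_arrows_iff (F.obj ⋙ CategoryTheory.forget AddCommGrpCat) (g W)).1
      ((Presieve.isSheafFor_iff_generate _).2 (hF _ (hg W)))
      (fun i => F.obj.map (hV W i).some.op (χ.app (op (E W i)) a)) fun i j Z p q _ => by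
        show F.obj.map p.op _ = F.obj.map q.op _
        rw [map_map, map_map]
        exact key _ _ _ _ a
    exact ⟨s, hs⟩
  choose σ hσ using hglue
  have hσ' : ∀ (W : EtOver X) (a : A) {T : EtOver X} (h : T ⟶ W) (E' : EtOver Y) (k : T ⟶ EtOver.bcObj hf E'),
      F.obj.map h.op (σ W a) = F.obj.map k.op (χ.app (op E') a) := fun W a T h E' k => by
    refine (hF _ ((etTop X).pullback_stable h (hg W))).isSeparatedFor.ext fun Z c hc => ?_
    obtain ⟨i, b, hb⟩ := (Sieve.mem_ofArrows_iff _ _ _).1 hc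
    show F.obj.map c.op (F.obj.map h.op (σ W a)) = F.obj.map c.op (F.obj.map k.op _)
    rw [map_map, map_map, hb, ← map_map, hσ, map_map]
    exact key _ _ _ _ a
  let ψ : (Functor.const (EtOver X)ᵒᵖ).obj A ⟶ F.obj :=
    { app := fun W => AddCommGrpCat.ofHom
        (AddMonoidHom.mk' (σ W.unop) fun a b => hsep _ fun i => by simp only [map_add, hσ]; exact map_add _ _ _)
      naturality := fun W W' k => AddCommGrpCat.hom_ext (AddMonoidHom.ext fun a => hsep W'.unop fun i =>
        (hσ _ _ i).trans ((hσ' W.unop a (g W'.unop i ≫ k.unop) _ (hV W'.unop i).some).symm.trans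
          (map_map F (g W'.unop i) k.unop _).symm)) }
  refine ⟨ψ, NatTrans.ext (funext fun E' => AddCommGrpCat.hom_ext (AddMonoidHom.ext fun a => ?_)), fun ψ' hψ' =>
    NatTrans.ext (funext fun W => AddCommGrpCat.hom_ext (AddMonoidHom.ext fun a => hsep W.unop fun i => ?_))⟩
  · have h := hσ' ((EtOver.bc hf).obj E'.unop) a (𝟙 _) E'.unop (𝟙 _)
    have hid : ∀ (W : EtOver X) (x : F.obj.obj (op W)), F.obj.map (𝟙 W).op x = x := fun W x => by simp
    exact (hid _ _).symm.trans (h.trans (hid _ _))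
  · refine Eq.trans ?_ (hσ W.unop a i).symm
    have h1 := ConcreteCategory.congr_hom (ψ'.naturality (g W.unop i).op) a
    have h2 := ConcreteCategory.congr_hom (ψ'.naturality (hV W.unop i).some.op) a
    have h3 := ConcreteCategory.congr_hom (congrArg (fun t => t.app (op (E W.unop i))) hψ') a
    refine h1.symm.trans (h2.trans ?_)
    exact congrArg (F.obj.map (hV W.unop i).some.op) h3

variable {A : AddCommGrpCat.{u + 1}}

/-- The comparison of constant sheaves. -/
theorem exists_iso_pull_constantSheaf (hY : IsAlgSpace Y) (A : AddCommGrpCat.{u + 1}) :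
    Nonempty ((pullEt hf AddCommGrpCat.{u + 1}).obj ((constantSheaf (etTop Y) AddCommGrpCat.{u + 1}).obj A) ≅
      (constantSheaf (etTop X) AddCommGrpCat.{u + 1}).obj A) := by
  let cY := (constantSheaf (etTop Y) AddCommGrpCat.{u + 1}).obj A
  let cX := (constantSheaf (etTop X) AddCommGrpCat.{u + 1}).obj A
  let sX := sheafificationAdjunction (etTop X) AddCommGrpCat.{u + 1}
  let sY := sheafificationAdjunction (etTop Y) AddCommGrpCat.{u + 1}
  let adj := pullPushAdjEt hf AddCommGrpCat.{u + 1}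
  let θ : (pullEt hf AddCommGrpCat.{u + 1}).obj cY ⟶ cX :=
    (adj.homEquiv _ _).symm ((sY.homEquiv _ _).symm
      (Functor.whiskerLeft (EtOver.bc hf).op (sX.homEquiv _ _ (𝟙 cX))))
  have hθ : ∀ (F : AbEt X) (p : cX ⟶ F), sY.homEquiv _ _ (adj.homEquiv _ _ (θ ≫ p)) =
      Functor.whiskerLeft (EtOver.bc hf).op (sX.homEquiv _ _ p) := fun F p => by
    refine ((congrArg (fun t => sY.homEquiv _ _ t) ((adj.homEquiv_naturality_right θ p).trans
      (congrArg (fun t => t ≫ (pushEt hf AddCommGrpCat.{u + 1}).map p) ((adj.homEquiv cY cX).apply_symm_apply _))))).trans ?_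
    refine (sY.homEquiv_naturality_right _ _).trans ?_
    refine (congrArg (fun t => t ≫ (sheafToPresheaf _ _).map ((pushEt hf AddCommGrpCat.{u + 1}).map p))
      ((sY.homEquiv _ _).apply_symm_apply _)).trans ?_
    rw [show sX.homEquiv _ _ p = sX.homEquiv _ _ (𝟙 cX) ≫ (sheafToPresheaf _ _).map p by
      rw [← sX.homEquiv_naturality_right]; exact congrArg _ (Category.id_comp p).symm]
    rfl
  haveI : IsIso θ := isIso_of_coyoneda_map_bijective θ fun F => ⟨fun p q hpq => by
      refine (sX.homEquiv _ _).injective ?_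
      exact (exists_unique_extend hf hY A F (Functor.whiskerLeft (EtOver.bc hf).op (sX.homEquiv _ _ p))).unique rfl
        ((hθ F q).symm.trans ((congrArg (fun t => sY.homEquiv _ _ (adj.homEquiv _ _ t)) hpq).symm.trans (hθ F p))),
    fun q => by
      obtain ⟨ψ, hψ, -⟩ := exists_unique_extend hf hY A F (sY.homEquiv _ _ (adj.homEquiv _ _ q))
      refine ⟨(sX.homEquiv _ _).symm ψ, (adj.homEquiv _ _).injective ((sY.homEquiv _ _).injective ?_)⟩
      refine (hθ F _).trans ?_
      rw [Equiv.apply_symm_apply]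
      exact hψ⟩
  exact ⟨asIso θ⟩

/-- Cohomology of the direct image of an acyclic sheaf along an affine morphism. -/
theorem nonempty_HEt_pushEt {X Y : Space S} {f : X.obj ⟶ Y.obj} (hf : Representable f)
    (haff : RepWith @IsAffineHom f) (F : AbEt X.obj) (hF : CechAcyclic F.obj) (n : ℕ) :
    Nonempty (HEt X.obj F n ≃+ HEt Y.obj ((pushEt hf AddCommGrpCat.{u + 1}).obj F) n) := by
  obtain ⟨e⟩ := exists_iso_pull_constantSheaf hf Y.property (AddCommGrpCat.of (ULift ℤ))
  obtain ⟨a⟩ := nonempty_ext_equiv_of_acyclic (pullPushAdjEt hf AddCommGrpCat.{u + 1})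
    (fun I _ => injective_pushEt hf I) ((constantSheaf (etTop Y.obj) AddCommGrpCat.{u + 1}).obj
      (AddCommGrpCat.of (ULift ℤ))) F (fun k => isZero_RpushEt hf Y.property haff k F hF) n
  refine ⟨AddEquiv.trans ?_ a.symm⟩
  exact { toFun := fun x => (Ext.mk₀ e.hom).comp x (zero_add n)
          invFun := fun x => (Ext.mk₀ e.inv).comp x (zero_add n)
          left_inv := fun x => by simp [Ext.mk₀_comp_mk₀_assoc]
          right_inv := fun x => by simp [Ext.mk₀_comp_mk₀_assoc]
          map_add' := fun x y => by simp }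

end Groth.EtVan

end
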