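import Groth.Agent.ModEtQCoh.Vanish.Tuples
import Mathlib.CategoryTheory.Preadditive.Injective.Basic

/-!
# Injective sheaves are Cech acyclic on affine families
-/

set_option autoImplicit false
set_option backward.isDefEq.respectTransparency.types false
set_option linter.style.haveILetI false
universe u

open CategoryTheory CategoryTheory.Limits AlgebraicGeometry Opposite AlgSp Groth.ModEtQCoh

noncomputable section

namespace Groth.EtVan

variable {S : Scheme.{u}} {X : Sp S}

/-- All functions on maps into an object. -/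
def coskyF (I : (EtOver X)ᵒᵖ ⥤ AddCommGrpCat.{u + 1}) : (EtOver X)ᵒᵖ ⥤ AddCommGrpCat.{u + 1} where
  obj W := AddCommGrpCat.of (∀ T : EtOver X, (T ⟶ W.unop) → I.obj (op T))
  map {W W'} h := AddCommGrpCat.ofHom
    { toFun := fun w T g => w T (g ≫ h.unop), map_zero' := rfl, map_add' := fun _ _ => rfl }
  map_id W := by
    refine AddCommGrpCat.hom_ext (DFunLike.ext _ _ fun w => ?_)
    funext T g
    exact congrArg (w T) (Category.comp_id g)
  map_comp {W W' W''} h h' := by
    refine AddCommGrpCat.hom_ext (DFunLike.ext _ _ fun w => ?_)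
    funext T g
    exact congrArg (w T) (Category.assoc g h'.unop h.unop).symm

/-- A presheaf embeds into `coskyF`. -/
def toCosky (I : (EtOver X)ᵒᵖ ⥤ AddCommGrpCat.{u + 1}) : I ⟶ coskyF I where
  app W := AddCommGrpCat.ofHom
    { toFun := fun x T g => I.map g.op x
      map_zero' := funext fun T => funext fun g => map_zero (I.map g.op).hom
      map_add' := fun x y => funext fun T => funext fun g => map_add (I.map g.op).hom x y }
  naturality {W W'} h := by
    refine AddCommGrpCat.hom_ext (DFunLike.ext _ _ fun x => ?_)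
    funext T g
    show I.map g.op (I.map h x) = I.map (g ≫ h.unop).op x
    rw [← ConcreteCategory.comp_apply, ← Functor.map_comp]
    rfl

instance (I : (EtOver X)ᵒᵖ ⥤ AddCommGrpCat.{u + 1}) : Mono (toCosky I) := by
  haveI : ∀ W, Mono ((toCosky I).app W) := fun W => (AddCommGrpCat.mono_iff_injective _).2 fun x y h => by
    have h' : I.map (𝟙 W.unop).op x = I.map (𝟙 W.unop).op y := congrFun (congrFun h W.unop) (𝟙 _)
    rwa [show (𝟙 W.unop).op = 𝟙 W from rfl, I.map_id] at h'
  exact NatTrans.mono_of_mono_app _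

variable {E : EtOver X} {κ : Type} {Z : κ → EtOver X} {a : ∀ k, Z k ⟶ E}

theorem isExact_cosky [IsAffine E.obj.left.left] [∀ k, IsAffine (Z k).obj.left.left]
    (I : (EtOver X)ᵒᵖ ⥤ AddCommGrpCat.{u + 1}) (n : ℕ) : IsExact (coskyF I) a n := by
  classical
  obtain ⟨D⟩ := nonempty_univData (a := a) (n + 1)
  intro δ hδ
  let φ : ∀ T : EtOver X, Fam a (n + 1) T → I.obj (op T) := fun T y =>
    (δ.val _ (D.tup fun i => (y.1 i).1) : ∀ T : EtOver X, (T ⟶ D.obj _) → I.obj (op T)) T (D.lift y)
  have hφ : ∀ (W : EtOver X) (y : Fam a (n + 1) W) (T : EtOver X) (g : T ⟶ W),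
      (δ.val W y : ∀ T : EtOver X, (T ⟶ W) → I.obj (op T)) T g = φ T (tcomp g y) := by
    intro W y T g
    rw [val_eq_lift D δ y]
    refine congrArg ((δ.val _ (D.tup fun i => (y.1 i).1) : ∀ T : EtOver X, (T ⟶ D.obj _) → I.obj (op T)) T) ?_
    refine D.hom_ext _ ?_
    show tcomp (g ≫ D.lift y) (D.tup fun i => (y.1 i).1) = _
    rw [show tcomp (g ≫ D.lift y) (D.tup fun i => (y.1 i).1) = tcomp g (tcomp (D.lift y) (D.tup _)) from
      Subtype.ext (funext fun i => by simp [tcomp]), D.lift_tup]
    exact (D.lift_tup (tcomp g y)).symm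
  let el : ∀ (T : EtOver X) (m : ℕ) (y : Fam a m T), Leg Z T := fun T m y =>
    Classical.choose (⟨y.1 0, rfl⟩ : ∃ l : Leg Z T, base a l = base a (y.1 0))
  have hel : ∀ (T : EtOver X) (m : ℕ) (y : Fam a m T), base a (el T m y) = base a (y.1 0) := fun T m y =>
    Classical.choose_spec (⟨y.1 0, rfl⟩ : ∃ l : Leg Z T, base a l = base a (y.1 0))
  refine ⟨⟨fun W q => show ∀ T : EtOver X, (T ⟶ W) → I.obj (op T) from
    fun T g => φ T (tcons (el T n (tcomp g q)) (tcomp g q) (hel _ _ _)), fun {W W'} h q => funext fun T =>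
      funext fun g => ?_⟩, fun W y => funext fun T => funext fun g => ?_⟩
  · show φ T (tcons (el T n (tcomp (g ≫ h) q)) (tcomp (g ≫ h) q) (hel _ _ _)) = _
    have e : tcomp (g ≫ h) q = tcomp g (tcomp h q) := Subtype.ext (funext fun i => by simp [tcomp])
    simp only [e]
  let ev : (coskyF I).obj (op W) →+ I.obj (op T) :=
    { toFun := fun w => (w : ∀ T : EtOver X, (T ⟶ W) → I.obj (op T)) T g, map_zero' := rfl, map_add' := fun _ _ => rfl }
  let ev' : (coskyF I).obj (op T) →+ I.obj (op T) :=
    { toFun := fun w => (w : ∀ T' : EtOver X, (T' ⟶ T) → I.obj (op T')) T (𝟙 T), map_zero' := rfl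
      map_add' := fun _ _ => rfl }
  show ev (dVal _ W y) = ev (δ.val W y)
  have hid : ∀ {m : ℕ} (z : Fam a m T), tcomp (𝟙 T) z = z := fun z => Subtype.ext (funext fun i => by simp [tcomp])
  let y' := tcomp g y
  let l := el T (n + 1) y'
  have h0 := congrArg ev' (hδ T (tcons l y' (hel _ _ _)))
  simp only [dVal, map_sum, map_zsmul, map_add, map_zero, Fin.sum_univ_succ (n := n + 2), face_tcons_zero] at h0
  rw [show ev' (δ.val T y') = φ T y' from (hφ T y' T (𝟙 T)).trans (by rw [hid])] at h0
  rw [show ev (δ.val W y) = φ T y' from hφ W y T g]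
  have hs : ∀ i : Fin (n + 2), ev' (δ.val T (face (tcons l y' (hel _ _ _)) i.succ)) =
      φ T (tcons (el T n (tcomp g (face y i))) (tcomp g (face y i)) (hel _ _ _)) := fun i => by
    refine (hφ T _ T (𝟙 T)).trans ?_
    rw [hid, face_tcons_succ]
    have e : el T n (tcomp g (face y i)) = l := by
      simp only [el, l]
      congr 1
      funext l'
      rw [show base a ((tcomp g (face y i)).1 0) = base a (y'.1 0) from y'.2 _]
    simp only [e]
    rfl
  simp only [hs, Fin.val_zero, pow_zero, one_smul, Fin.val_succ, pow_succ, mul_neg, mul_one, neg_smul,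
    Finset.sum_neg_distrib, add_neg_eq_zero] at h0
  rw [h0]
  simp only [dVal, map_sum, map_zsmul]
  rfl

/-- Injective presheaves are Cech acyclic. -/
theorem cechAcyclic_injective (I : (EtOver X)ᵒᵖ ⥤ AddCommGrpCat.{u + 1}) [Injective I] : CechAcyclic I :=
  fun E _ _ _ _ a _ n => isExact_retract (toCosky I) (Injective.factorThru (𝟙 I) (toCosky I))
    (Injective.comp_factorThru _ _) (isExact_cosky I n)

end Groth.EtVan

end
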