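import Groth.Agent.ModEtQCoh.Vanish.Cohom
import Groth.Agent.ModEtQCoh.Push
import Groth.Agent.AlgSpEt.UnivInjStalks
import Groth.Agent.CohBase.DerivedShift
import Mathlib.CategoryTheory.Abelian.GrothendieckCategory.EnoughInjectives
import Mathlib.CategoryTheory.Preadditive.Injective.Preserves

/-!
# Direct images along affine morphisms of acyclic sheaves
-/

set_option autoImplicit false
set_option backward.isDefEq.respectTransparency.types false
set_option linter.style.haveILetI false
universe u

open CategoryTheory CategoryTheory.Limits AlgebraicGeometry Opposite AlgSp Groth.ModEtQCoh Groth.AlgSpEt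

noncomputable section

namespace Groth.EtVan

variable {S : Scheme.{u}} {X Y : Sp S} {f : X ⟶ Y} (hf : Representable f)

theorem jointlySurj_of_charts (hY : IsAlgSpace Y) (W : EtOver Y) :
    ∃ (ι : Type u) (E : ι → EtOver Y) (g : ∀ i, E i ⟶ W), (∀ i, IsAffine (E i).obj.left.left) ∧ JointlySurj g := by
  choose E h z hE hx using exists_affine_chart_of_ofPt W
  exact ⟨W.obj.left.left, E, h, hE, fun x => ⟨x, z x, hx x⟩⟩

/-- Direct image along an affine morphism keeps epimorphisms with acyclic kernel. -/
theorem epi_push (hY : IsAlgSpace Y) (haff : RepWith @IsAffineHom f) {C : ShortComplex (AbEt X)}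
    (hC : C.ShortExact) (h₁ : CechAcyclic C.X₁.obj) :
    Epi ((pushEt hf AddCommGrpCat.{u + 1}).map C.g) := by
  have h : Sheaf.IsLocallySurjective ((pushEt hf AddCommGrpCat.{u + 1}).map C.g) := by
    refine ⟨fun {W} s => ?_⟩
    obtain ⟨ι, E, g, hE, hg⟩ := jointlySurj_of_charts hY W
    refine GrothendieckTopology.superset_covering _ ?_ (ofArrows_mem_etTop E g hg)
    rw [Sieve.ofArrows, Sieve.generate_le_iff]
    rintro Z k ⟨i⟩
    haveI := hE i
    haveI := isAffine_bc hf haff (E i)
    exact sections_surjective hC h₁ (EtOver.bcObj hf (E i)) _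
  exact (Sheaf.isLocallySurjective_iff_epi' AddCommGrpCat.{u + 1} _).1 h

instance preservesFiniteLimits_pushEt : PreservesFiniteLimits (pushEt hf AddCommGrpCat.{u + 1}) :=
  (pullPushAdjEt hf AddCommGrpCat.{u + 1}).rightAdjoint_preservesLimits.{0, 0}.preservesFiniteLimits

/-- Acyclic sheaves have no higher direct images along affine morphisms. -/
theorem isZero_RpushEt (hY : IsAlgSpace Y) (haff : RepWith @IsAffineHom f) :
    ∀ (n : ℕ) (F : AbEt X), CechAcyclic F.obj → IsZero ((RpushEt hf (n + 1)).obj F) := by
  intro n
  induction n with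
  | zero =>
    intro F hF
    let C := ShortComplex.mk (Injective.ι F) (cokernel.π (Injective.ι F)) (cokernel.condition _)
    have hC : C.ShortExact :=
      { exact := ShortComplex.exact_of_g_is_cokernel _ (cokernelIsCokernel (Injective.ι F)) }
    haveI : Injective C.X₂ := inferInstanceAs (Injective (Injective.under F))
    exact Groth.CohBase.isZero_rightDerived_one hC (pushEt hf AddCommGrpCat.{u + 1})
      (epi_push hf hY haff hC hF)
  | succ n ih =>
    intro F hF
    let C := ShortComplex.mk (Injective.ι F) (cokernel.π (Injective.ι F)) (cokernel.condition _)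
    have hC : C.ShortExact :=
      { exact := ShortComplex.exact_of_g_is_cokernel _ (cokernelIsCokernel (Injective.ι F)) }
    haveI : Injective C.X₂ := inferInstanceAs (Injective (Injective.under F))
    exact (ih _ (cechAcyclic_of_shortExact hC hF (cechAcyclic_of_injective _))).of_iso
      (Groth.CohBase.rightDerivedShift hC (pushEt hf AddCommGrpCat.{u + 1}) n)

/-- Monomorphisms are detected on geometric stalks. -/
theorem mono_of_stalks {X : Space S} {F G : AbEt X.obj} (a : F ⟶ G)
    (h : ∀ (p : FieldPt X.obj) (hp : p.IsGeometric), Mono ((ptEt p X.property hp).sheafFiber.map a)) :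
    Mono a := by
  have : ∀ E, Mono (((sheafToPresheaf (etTop X.obj) AddCommGrpCat.{u + 1}).map a).app E) := fun E => (AddCommGrpCat.mono_iff_injective _).2 fun σ τ hστ => by
    have loc : ∀ e : ↥E.unop.obj.left.left, ∃ (V : EtOver X.obj) (g : V ⟶ E.unop),
        F.obj.map g.op σ = F.obj.map g.op τ ∧ e ∈ Set.range g.hom.left.left := by
      intro e
      obtain ⟨p, w, hp, rfl⟩ := exists_geometric_lift E.unop e
      refine (toPresheafFiber_eq_iff_mem X F hp w σ τ).1 ((AddCommGrpCat.mono_iff_injective _).1 (h p hp) ?_)
      refine ((ptEt p X.property hp).toPresheafFiber_naturality_apply a.hom E.unop w σ).trans ?_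
      refine Eq.trans ?_ ((ptEt p X.property hp).toPresheafFiber_naturality_apply a.hom E.unop w τ).symm
      exact congrArg _ hστ
    choose V g hg hv using loc
    exact sheaf_ext F (Y := V) (g := g) (fun e => ⟨e, hv e⟩) hg
  have : Mono ((sheafToPresheaf _ _).map a) := NatTrans.mono_of_mono_app _
  exact (sheafToPresheaf _ _).mono_of_mono_map this

/-- Inverse image of abelian sheaves on small etale sites is exact on the left: it keeps monomorphisms. -/
theorem preservesMonomorphisms_pullEt {X Y : Space S} {f : X.obj ⟶ Y.obj} (hf : Representable f) :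
    (pullEt hf AddCommGrpCat.{u + 1}).PreservesMonomorphisms := by
  haveI : AB5OfSize.{u, u} AddCommGrpCat.{u + 1} := AB5OfSize_shrink.{u, u, u + 1, u + 1} _
  constructor
  intro F G a _
  refine mono_of_stalks _ fun z hz => ?_
  have : Mono ((ptEt (z.map f) Y.property hz).sheafFiber.map a) := inferInstance
  let η := Groth.AlgSpEt.UI.pullStalkIso hf X.property Y.property hz AddCommGrpCat.{u + 1}
  have e : (ptEt z X.property hz).sheafFiber.map ((pullEt hf AddCommGrpCat.{u + 1}).map a) =
      η.inv.app F ≫ (ptEt (z.map f) Y.property hz).sheafFiber.map a ≫ η.hom.app G := by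
    rw [η.hom.naturality a, Iso.inv_hom_id_app_assoc]
    rfl
  rw [e]
  infer_instance

/-- Direct image of abelian sheaves on small etale sites keeps injectives. -/
theorem injective_pushEt {X Y : Space S} {f : X.obj ⟶ Y.obj} (hf : Representable f) (I : AbEt X.obj)
    [Injective I] : Injective ((pushEt hf AddCommGrpCat.{u + 1}).obj I) :=
  haveI := preservesMonomorphisms_pullEt hf
  Injective.injective_of_adjoint (pullPushAdjEt hf AddCommGrpCat.{u + 1}) I

end Groth.EtVan

end
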