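import Groth.Agent.ModEtQCoh.Vanish.PushAb
import Groth.Agent.EtaleBase.IntegralCond
import Groth.Agent.EtaleBase.RpushExact

/-!
# Direct images along integral morphisms of algebraic spaces are exact
-/

set_option autoImplicit false
set_option backward.isDefEq.respectTransparency.types false
set_option linter.style.haveILetI false
universe u

open CategoryTheory CategoryTheory.Limits AlgebraicGeometry Opposite AlgSp Groth.ModEtQCoh

noncomputable section

namespace Groth.EtVan

variable {S : Scheme.{u}}

/-- The object of the small etale site given by an etale scheme over an object. -/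
def etAbove {X : Sp S} (E : EtOver X) {T : Scheme.{u}} (t : T ⟶ E.obj.left.left) [Etale t] : EtOver X :=
  EtOver.mk ((yon S).map (Over.homMk t rfl : Over.mk (t ≫ E.obj.left.hom) ⟶ E.obj.left) ≫ E.obj.hom)
    (Groth.AlgSpBasic.repWith_comp ((repWith_yon_map_iff _ _).2 (inferInstance : Etale t)) E.property)

/-- Its map to the object. -/
def etAboveHom {X : Sp S} (E : EtOver X) {T : Scheme.{u}} (t : T ⟶ E.obj.left.left) [Etale t] :
    etAbove E t ⟶ E :=
  EtOver.homMk (Over.homMk t rfl) rfl

variable {X Y : Sp S} {f : X ⟶ Y} (hf : Representable f)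

/-- Direct image along an integral morphism keeps local surjectivity. -/
theorem isLocallySurjective_pushEt (hint : RepWith @IsIntegralHom f) {F G : AbEt X} (φ : F ⟶ G)
    (hφ : Sheaf.IsLocallySurjective φ) :
    Sheaf.IsLocallySurjective ((pushEt hf AddCommGrpCat.{u + 1}).map φ) := by
  refine ⟨fun {V} σ => ?_⟩
  let B := EtOver.bcObj hf V
  let fV : B.obj.left.left ⟶ V.obj.left.left := (EtOver.bcπ hf V).left
  have : IsIntegralHom fV :=
    hint.property V.obj.hom B.obj.hom (EtOver.bcπ hf V) (EtOver.isPullback_bcObj hf V)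
  have hR : Presheaf.imageSieve φ.hom (U := B) σ ∈ etTop X B := hφ.imageSieve_mem _
  obtain ⟨P, hP, hle⟩ := (etPre X).mem_toGrothendieck_iff_of_isStableUnderComposition.1 hR
  obtain ⟨ι, W, g, rfl⟩ := Presieve.exists_eq_ofArrows P
  have hsurj : ∀ x : B.obj.left.left, ∃ i, x ∈ Set.range (g i).hom.left.left := (ofArrows_mem_etPre_iff _ _).1 hP
  choose i z hz using hsurj
  have hgl : ∀ x, ∃ τ, φ.hom.app (op (W (i x))) τ = G.obj.map (g (i x)).op σ := fun x =>
    hle _ _ (Presieve.ofArrows.mk (i x))
  choose τ hτ using hgl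
  let π : (∐ fun x => (W (i x)).obj.left.left) ⟶ B.obj.left.left := Sigma.desc fun x => (g (i x)).hom.left.left
  have : Etale π := IsZariskiLocalAtSource.sigmaDesc fun x => EtOver.etale_left (g (i x))
  have hπ : ∀ x, π.base ((Sigma.ι (fun x => (W (i x)).obj.left.left) x).base (z x)) = x := fun x => by
    rw [← Scheme.Hom.comp_apply, Sigma.ι_desc]
    exact hz x
  have key := fun y : V.obj.left.left =>
    Groth.EtaleBase.exists_etale_nbhd_section fV π y (fun x _ => ⟨_, hπ x⟩) none (by simp)
  choose V' v' hv' h hh hy _ using key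
  haveI := hv'
  refine GrothendieckTopology.superset_covering _ ?_
    (ofArrows_mem_etTop (fun y => etAbove V (v' y)) (fun y => etAboveHom V (v' y)) fun y => ⟨y, hy y⟩)
  rw [Sieve.ofArrows, Sieve.generate_le_iff]
  rintro _ _ ⟨y⟩
  let j := etAboveHom V (v' y)
  let B₁ := EtOver.bcObj hf (etAbove V (v' y))
  let l : B₁.obj.left.left ⟶ pullback fV (v' y) :=
    pullback.lift (EtOver.bcMap hf j).hom.left.left (EtOver.bcπ hf (etAbove V (v' y))).left
      ((EtOver.isPullback_bcMap_left hf j).w)
  let k : B₁.obj.left.left ⟶ ∐ fun x => (W (i x)).obj.left.left := l ≫ h y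
  have hk : k ≫ π = (EtOver.bcMap hf j).hom.left.left := by
    rw [Category.assoc, hh]
    exact pullback.lift_fst _ _ _
  let P := Groth.EtaleBase.sigmaPiece (fun x => (W (i x)).obj.left.left) k
  have h1 := fun x => Groth.EtaleBase.sigmaPieceHom_comp (fun x => (W (i x)).obj.left.left) k
    (fun x => (g (i x)).hom.left.left) x
  have hq : ∀ x, ∃ q : etAbove B₁ (P x).ι ⟶ W (i x),
      q ≫ g (i x) = etAboveHom B₁ (P x).ι ≫ (EtOver.bc hf).map j := fun x => by
    let q₀ : (etAbove B₁ (P x).ι).obj.left ⟶ (W (i x)).obj.left :=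
      Over.homMk (Groth.EtaleBase.sigmaPieceHom (fun x => (W (i x)).obj.left.left) k x) (by
        show _ ≫ (W (i x)).obj.left.hom = (P x).ι ≫ B₁.obj.left.hom
        rw [← Over.w (g (i x)).hom.left, ← Category.assoc, h1 x, hk, Category.assoc,
          Over.w (EtOver.bcMap hf j).hom.left])
    have hq₀ : q₀ ≫ (g (i x)).hom.left = (Over.homMk (P x).ι rfl : (etAbove B₁ (P x).ι).obj.left ⟶ B₁.obj.left) ≫
        (EtOver.bcMap hf j).hom.left := by
      refine Over.OverMorphism.ext ?_
      exact (h1 x).trans (congrArg ((P x).ι ≫ ·) hk)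
    refine ⟨EtOver.homMk q₀ ?_, EtOver.hom_ext _ _ hq₀⟩
    rw [← EtOver.w (g (i x)), ← Category.assoc, ← Functor.map_comp, hq₀, Functor.map_comp, Category.assoc,
      EtOver.w (EtOver.bcMap hf j)]
    rfl
  choose q hq using hq
  have hPcov : JointlySurj fun x => etAboveHom B₁ (P x).ι := fun b => by
    obtain ⟨x, hx⟩ := TopologicalSpace.Opens.mem_iSup.1
      ((Groth.EtaleBase.iSup_sigmaPiece (fun x => (W (i x)).obj.left.left) k).symm ▸ TopologicalSpace.Opens.mem_top b)
    exact ⟨x, ⟨b, hx⟩, rfl⟩
  obtain ⟨s, hs⟩ := exists_glue F hPcov (fun x => F.obj.map (q x).op (τ x)) fun a b {T} p r he => by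
    by_cases hab : a = b
    · subst hab
      have : p = r := EtOver.hom_ext _ _ (Over.OverMorphism.ext
        ((cancel_mono (P a).ι).1 (congrArg (fun m : T ⟶ B₁ => m.hom.left.left) he)))
      rw [this]
    · have : IsEmpty T.obj.left.left := ⟨fun t => by
        have e : (P a).ι.base (p.hom.left.left.base t) = (P b).ι.base (r.hom.left.left.base t) :=
          (Scheme.Hom.comp_apply _ _ _).symm.trans
            ((congrArg (fun m : T ⟶ B₁ => m.hom.left.left.base t) he).trans (Scheme.Hom.comp_apply _ _ _))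
        have e2 : (P a).ι.base (p.hom.left.left.base t) ∈ P b := e ▸ (r.hom.left.left.base t).2
        exact (disjoint_iff.1 (Groth.EtaleBase.sigmaPiece_disjoint _ _ a b hab)).le
          ⟨(p.hom.left.left.base t).2, e2⟩⟩
      exact sheaf_ext F (ι := PEmpty.{1}) (Y := fun j => j.elim) (g := fun j => j.elim)
        (fun t => isEmptyElim t) fun j => j.elim
  refine ⟨s, sheaf_ext G hPcov fun x => ?_⟩
  refine (ConcreteCategory.congr_hom (φ.hom.naturality (etAboveHom B₁ (P x).ι).op) s).symm.trans ?_
  refine (congrArg (φ.hom.app _) (hs x)).trans (Eq.trans ?_ (map_map G _ _ _).symm)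
  refine (ConcreteCategory.congr_hom (φ.hom.naturality (q x).op) (τ x)).trans ?_
  show G.obj.map (q x).op (φ.hom.app _ (τ x)) = _
  rw [hτ]
  exact (map_map G _ _ _).trans (congrArg (fun m => G.obj.map (Quiver.Hom.op m) σ) (hq x))

/-- Direct image of abelian sheaves along an integral morphism is exact. -/
theorem preservesFiniteColimits_pushEt (hint : RepWith @IsIntegralHom f) :
    PreservesFiniteColimits (pushEt hf AddCommGrpCat.{u + 1}) := by
  have : (pushEt hf AddCommGrpCat.{u + 1}).PreservesEpimorphisms := ⟨fun φ _ =>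
    (Sheaf.isLocallySurjective_iff_epi' AddCommGrpCat.{u + 1} _).1
      (isLocallySurjective_pushEt hf hint φ
        ((Sheaf.isLocallySurjective_iff_epi' AddCommGrpCat.{u + 1} φ).2 ‹_›))⟩
  have : PreservesFiniteLimits (pushEt hf AddCommGrpCat.{u + 1}) := preservesFiniteLimits_pushEt hf
  have : PreservesLimitsOfShape WalkingParallelPair (pushEt hf AddCommGrpCat.{u + 1}) :=
    PreservesFiniteLimits.preservesFiniteLimits _
  haveI : ∀ {A B : AbEt X} (a : A ⟶ B), PreservesLimit (parallelPair a 0) (pushEt hf AddCommGrpCat.{u + 1}) :=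
    fun a => inferInstance
  have := (pushEt hf AddCommGrpCat.{u + 1}).preservesHomology_of_preservesEpis_and_kernels
  exact Functor.preservesFiniteColimits_of_preservesHomology _

theorem isZero_RpushEt_of_integral (hint : RepWith @IsIntegralHom f) (F : AbEt X) (n : ℕ) :
    IsZero ((RpushEt hf (n + 1)).obj F) := by
  have := preservesFiniteColimits_pushEt hf hint
  exact Groth.EtaleBase.isZero_rightDerived_of_preservesHomology _ F n

end Groth.EtVan

end
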