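import Groth.Agent.ModEtQCoh.Vanish.SquareGlue
import Mathlib.Algebra.Homology.CommSq
import Mathlib.CategoryTheory.Adjunction.Whiskering
import Mathlib.Algebra.Category.Grp.Adjunctions
import Mathlib.Algebra.Homology.DerivedCategory.Ext.ExactSequences

/-!
# Ext groups from free sheaves on spaces etale over the base; Mayer-Vietoris
-/

set_option autoImplicit false
set_option backward.isDefEq.respectTransparency.types false
set_option linter.style.haveILetI false
universe u

open CategoryTheory CategoryTheory.Limits AlgebraicGeometry Opposite AlgSp Groth.ModEtQCoh Abelian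

noncomputable section

namespace Groth.EtVan

variable {S : Scheme.{u}} {X : AlgSp.Space S}

/-- The free abelian sheaf on a presheaf of sets. -/
abbrev freeSh (X : AlgSp.Space S) : ((EtOver X.obj)ᵒᵖ ⥤ Type (u + 1)) ⥤ AbEt X.obj :=
  (Functor.whiskeringRight _ _ _).obj AddCommGrpCat.free.{u + 1} ⋙ presheafToSheaf (etTop X.obj) AddCommGrpCat.{u + 1}

/-- The free abelian sheaf of a space etale over the base. -/
abbrev freeH (W : EtSpOver X) : AbEt X.obj := (freeSh X).obj (hPre W)

/-- Its adjunction. -/
def freeShAdj (X : AlgSp.Space S) : freeSh X ⊣ sheafToPresheaf (etTop X.obj) AddCommGrpCat.{u + 1} ⋙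
    (Functor.whiskeringRight _ _ _).obj (forget AddCommGrpCat.{u + 1}) :=
  (AddCommGrpCat.adj.whiskerRight _).comp (sheafificationAdjunction (etTop X.obj) AddCommGrpCat.{u + 1})

/-- The underlying sheaf of sets. -/
abbrev underlying (G : AbEt X.obj) : Sheaf (etTop X.obj) (Type (u + 1)) :=
  ⟨G.obj ⋙ forget AddCommGrpCat, Presheaf.isSheaf_comp_of_isSheaf _ _ _ G.property⟩

variable {W U V UV : EtSpOver X} {j : U ⟶ W} {f : V ⟶ W} {p : UV ⟶ U} {q : UV ⟶ V}
  (hsq : IsElemDistSq j.hom.left.hom f.hom.left.hom)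
  (hP : IsPullback p.hom.left.hom q.hom.left.hom j.hom.left.hom f.hom.left.hom)

include hP in
theorem hMap_comm : hMap p ≫ hMap j = hMap q ≫ hMap f :=
  NatTrans.ext (funext fun E => ConcreteCategory.hom_ext _ _ fun s => Subtype.ext
    ((Category.assoc _ _ _).trans ((congrArg (s.1 ≫ ·) hP.w).trans (Category.assoc _ _ _).symm)))

include hsq hP in
theorem isPushout_free : IsPushout ((freeSh X).map (hMap p)) ((freeSh X).map (hMap q))
    ((freeSh X).map (hMap j)) ((freeSh X).map (hMap f)) := by
  have w : (freeSh X).map (hMap p) ≫ (freeSh X).map (hMap j) = (freeSh X).map (hMap q) ≫ (freeSh X).map (hMap f) := by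
    rw [← Functor.map_comp, ← Functor.map_comp, hMap_comm hP]
  let adj := freeShAdj X
  have key : ∀ s : PushoutCocone ((freeSh X).map (hMap p)) ((freeSh X).map (hMap q)),
      ∃! m : freeH W ⟶ s.pt, (freeSh X).map (hMap j) ≫ m = s.inl ∧ (freeSh X).map (hMap f) ≫ m = s.inr := fun s => by
    have hab : hMap p ≫ adj.homEquiv _ _ s.inl = hMap q ≫ adj.homEquiv _ _ s.inr := by
      rw [← Adjunction.homEquiv_naturality_left, ← Adjunction.homEquiv_naturality_left]
      exact congrArg _ s.condition
    obtain ⟨m, ⟨hm₁, hm₂⟩, hu⟩ := existsUnique_desc (F := underlying s.pt) hsq hP hab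
    refine ⟨(adj.homEquiv _ _).symm m, ⟨?_, ?_⟩, fun m' hm' => ?_⟩
    · refine (adj.homEquiv _ _).injective ?_
      rw [Adjunction.homEquiv_naturality_left, Equiv.apply_symm_apply]
      exact hm₁
    · refine (adj.homEquiv _ _).injective ?_
      rw [Adjunction.homEquiv_naturality_left, Equiv.apply_symm_apply]
      exact hm₂
    · refine ((adj.homEquiv _ _).symm_apply_eq.2 ?_).symm
      refine (hu _ ⟨?_, ?_⟩).symm
      · exact (Adjunction.homEquiv_naturality_left _ _ _).symm.trans (congrArg _ hm'.1)
      · exact (Adjunction.homEquiv_naturality_left _ _ _).symm.trans (congrArg _ hm'.2)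
  exact ⟨⟨w⟩, ⟨PushoutCocone.IsColimit.mk w (fun s => (key s).choose) (fun s => (key s).choose_spec.1.1)
    (fun s => (key s).choose_spec.1.2) (fun s m h₁ h₂ => (key s).choose_spec.2 m ⟨h₁, h₂⟩)⟩⟩

theorem mono_hMap {W W' : EtSpOver X} (g : W ⟶ W') [Mono g.hom.left.hom] : Mono (hMap g) := by
  haveI : ∀ E, Mono ((hMap g).app E) := fun E => by
    refine (mono_iff_injective _).2 fun s t h => Subtype.ext ?_
    exact (cancel_mono g.hom.left.hom).1 (congrArg Subtype.val h)
  exact NatTrans.mono_of_mono_app _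

include hsq hP in
theorem shortExact_free : (isPushout_free hsq hP).shortComplex.ShortExact := by
  haveI : Mono j.hom.left.hom :=
    Groth.AlgSpBasic.mono_of_repWith (fun _ _ g (_ : IsOpenImmersion g) => (inferInstance : Mono g)) hsq.1
  haveI : Mono q.hom.left.hom := hP.mono_snd_of_mono
  haveI := mono_hMap q
  haveI : Mono (((Functor.whiskeringRight _ _ _).obj AddCommGrpCat.free.{u + 1}).map (hMap q)) := by
    haveI : ∀ E, Mono ((((Functor.whiskeringRight _ _ _).obj AddCommGrpCat.free.{u + 1}).map (hMap q)).app E) :=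
      fun E => inferInstanceAs (Mono (AddCommGrpCat.free.map ((hMap q).app E)))
    exact NatTrans.mono_of_mono_app _
  haveI : Mono ((freeSh X).map (hMap q)) :=
    (presheafToSheaf (etTop X.obj) AddCommGrpCat.{u + 1}).map_mono _
  haveI : Mono (isPushout_free hsq hP).shortComplex.f := by
    haveI : Mono (biprod.lift ((freeSh X).map (hMap p)) (-((freeSh X).map (hMap q))) ≫ biprod.snd) := by
      rw [biprod.lift_snd]
      infer_instance
    exact mono_of_mono (biprod.lift ((freeSh X).map (hMap p)) (-((freeSh X).map (hMap q)))) biprod.snd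
  haveI := (isPushout_free hsq hP).epi_shortComplex_g
  exact { exact := (isPushout_free hsq hP).exact_shortComplex }

include hsq hP in
/-- Vanishing on the three parts of an elementary square gives vanishing on the whole. -/
theorem subsingleton_ext_of_square (F : AbEt X.obj) (n : ℕ)
    (hUV : Subsingleton (Ext (freeH UV) F n)) (hU : Subsingleton (Ext (freeH U) F (n + 1)))
    (hV : Subsingleton (Ext (freeH V) F (n + 1))) : Subsingleton (Ext (freeH W) F (n + 1)) := by
  refine subsingleton_of_forall_eq 0 fun x => ?_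
  obtain ⟨y, rfl⟩ := Ext.contravariant_sequence_exact₃ (shortExact_free hsq hP) F x
    (Ext.biprod_ext (hU.elim _ _) (hV.elim _ _)) (add_comm 1 n)
  rw [show y = 0 from hUV.elim _ _]
  exact Ext.comp_zero (shortExact_free hsq hP).extClass F n _ _

/-- Objects of the small site as spaces over the base, with a universal section. -/
theorem subsingleton_ext_of_affine {W : EtSpOver X} (T : Over S) [IsAffine T.left]
    (e : (yon S).obj T ≅ W.obj.left.obj) :
    ∀ (n : ℕ) (F : AbEt X.obj), CechAcyclic F.obj → Subsingleton (Ext (freeH W) F (n + 1)) := by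
  let E₀ : EtOver X.obj := EtOver.mk (e.hom ≫ W.obj.hom.hom) (W.property e.hom (repWith_etale_of_isIso e.hom))
  haveI : IsAffine E₀.obj.left.left := ‹IsAffine T.left›
  let s₀ : hSec W E₀ := ⟨e.hom, rfl⟩
  have key : ∀ (E : EtOver X.obj) (s : hSec W E), ∃ γ : E ⟶ E₀, hres γ s₀ = s := fun E s => by
    obtain ⟨g, hg⟩ := (yon S).map_surjective (s.1 ≫ e.inv)
    refine ⟨EtOver.homMk g ?_, Subtype.ext ?_⟩
    · show (yon S).map g ≫ e.hom ≫ W.obj.hom.hom = E.obj.hom
      rw [hg, Category.assoc, e.inv_hom_id_assoc, s.2]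
    · show (yon S).map g ≫ e.hom = s.1
      rw [hg, Category.assoc, e.inv_hom_id, Category.comp_id]
  choose γ hγ using key
  intro n
  induction n with
  | zero =>
    intro F hF
    let C := ShortComplex.mk (Injective.ι F) (cokernel.π (Injective.ι F)) (cokernel.condition _)
    have hC : C.ShortExact :=
      { exact := ShortComplex.exact_of_g_is_cokernel _ (cokernelIsCokernel (Injective.ι F)) }
    refine subsingleton_of_forall_eq 0 fun x => ?_
    obtain ⟨y, rfl⟩ := Ext.covariant_sequence_exact₁ _ hC x (Ext.eq_zero_of_injective _) (zero_add 1)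
    obtain ⟨φ, rfl⟩ := Ext.addEquiv₀.symm.surjective y
    let adj := freeShAdj X
    let φ' : hPre W ⟶ (underlying C.X₃).obj := adj.homEquiv _ _ φ
    obtain ⟨t, ht⟩ := sections_surjective hC hF E₀ (φ'.app (op E₀) s₀)
    have huniq : ∀ {E : EtOver X.obj} (g g' : E ⟶ E₀), hres g s₀ = hres g' s₀ → g = g' := fun g g' h =>
      EtOver.hom_ext _ _ ((yon S).map_injective ((cancel_mono e.hom).1 (congrArg Subtype.val h)))
    let ψ' : hPre W ⟶ (underlying C.X₂).obj :=
      { app := fun E => ↾ fun s => C.X₂.obj.map (γ E.unop s).op t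
        naturality := fun E E' g => ConcreteCategory.hom_ext _ _ fun s => by
          refine Eq.trans ?_ (map_map C.X₂ g.unop (γ E.unop s) t).symm
          show C.X₂.obj.map (γ E'.unop (hres g.unop s)).op t = _
          rw [huniq (γ E'.unop (hres g.unop s)) (g.unop ≫ γ E.unop s)
            (by rw [hγ, ← hres_hres, hγ])] }
    let ψ := (adj.homEquiv _ _).symm ψ'
    have hψ : ψ ≫ C.g = φ := by
      refine (adj.homEquiv _ _).injective ?_
      rw [Adjunction.homEquiv_naturality_right, Equiv.apply_symm_apply]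
      refine NatTrans.ext (funext fun E => ConcreteCategory.hom_ext _ _ fun s => ?_)
      show C.g.hom.app E (C.X₂.obj.map (γ E.unop s).op t) = φ'.app E s
      refine (ConcreteCategory.congr_hom (C.g.hom.naturality (γ E.unop s).op) t).trans ?_
      show C.X₃.obj.map (γ E.unop s).op (C.g.hom.app _ t) = _
      rw [ht]
      exact (nat_apply (F := underlying C.X₃) φ' (γ E.unop s) s₀).trans (congrArg (φ'.app E) (hγ E.unop s))
    rw [← hψ]
    simp [Ext.addEquiv₀, Ext.homEquiv₀, ← Ext.mk₀_comp_mk₀]
  | succ n ih =>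
    intro F hF
    let C := ShortComplex.mk (Injective.ι F) (cokernel.π (Injective.ι F)) (cokernel.condition _)
    have hC : C.ShortExact :=
      { exact := ShortComplex.exact_of_g_is_cokernel _ (cokernelIsCokernel (Injective.ι F)) }
    have := ih _ (cechAcyclic_of_shortExact hC hF (cechAcyclic_of_injective _))
    refine subsingleton_of_forall_eq 0 fun x => ?_
    obtain ⟨y, rfl⟩ := Ext.covariant_sequence_exact₁ _ hC x (Ext.eq_zero_of_injective _) rfl
    rw [Subsingleton.elim y 0, Ext.zero_comp]

/-- The whole space. -/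
def selfObj (X : AlgSp.Space S) : EtSpOver X :=
  ⟨Over.mk (𝟙 X), fun _ φ hφ => by
    show RepWith @Etale (φ ≫ 𝟙 X.obj)
    exact (Category.comp_id φ).symm ▸ hφ⟩

/-- Cohomology vanishes when the Ext groups from the free sheaf of the whole space do. -/
theorem subsingleton_HEt_of_ext (F : AbEt X.obj) (n : ℕ)
    (h : Subsingleton (Ext (freeH (selfObj X)) F n)) : Subsingleton (HEt X.obj F n) := by
  have hu : ∀ E : EtOver X.obj, Unique (hSec (selfObj X) E) := fun E =>
    { default := ⟨E.obj.hom, Category.comp_id _⟩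
      uniq := fun s => Subtype.ext ((Category.comp_id s.1).symm.trans s.2) }
  let iso : hPre (selfObj X) ⋙ AddCommGrpCat.free.{u + 1} ≅
      (Functor.const (EtOver X.obj)ᵒᵖ).obj (AddCommGrpCat.of (ULift.{u + 1} ℤ)) :=
    NatIso.ofComponents (fun E =>
      letI := hu E.unop
      (((FreeAbelianGroup.uniqueEquiv (hSec (selfObj X) E.unop)).trans AddEquiv.ulift.symm).toAddCommGrpIso))
      (fun {E E'} g => by
        refine AddCommGrpCat.hom_ext (FreeAbelianGroup.lift_ext _ _ fun s => ?_)
        rfl)
  let e : freeH (selfObj X) ≅ (constantSheaf (etTop X.obj) AddCommGrpCat.{u + 1}).obj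
      (AddCommGrpCat.of (ULift.{u + 1} ℤ)) :=
    (presheafToSheaf (etTop X.obj) AddCommGrpCat.{u + 1}).mapIso iso
  refine subsingleton_of_forall_eq 0 fun x => ?_
  have hx : (Ext.mk₀ e.inv).comp ((Ext.mk₀ e.hom).comp x (zero_add n)) (zero_add n) = x := by
    rw [Ext.mk₀_comp_mk₀_assoc, e.inv_hom_id, Ext.mk₀_id_comp]
  rw [← hx, h.elim ((Ext.mk₀ e.hom).comp x (zero_add n)) 0, Ext.comp_zero]

end Groth.EtVan

end
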