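import Groth.Agent.AlgSpBasic.ElemDistPushout
import Groth.Agent.ModEtQCoh.Vanish.Cohom

/-!
# Elementary distinguished squares are pushouts for sheaves on the small etale site
-/

set_option autoImplicit false
set_option backward.isDefEq.respectTransparency.types false
set_option linter.style.haveILetI false
universe u

open CategoryTheory CategoryTheory.Limits AlgebraicGeometry Opposite AlgSp Groth.AlgSpBasic Groth.ModEtQCoh

noncomputable section

namespace Groth.EtVan

variable {S : Scheme.{u}} {X : AlgSp.Space S}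

/-- Maps over `X` into a space etale over `X`. -/
abbrev hSec (W : EtSpOver X) (E : EtOver X.obj) : Type (u + 1) :=
  {s : (yon S).obj E.obj.left ⟶ W.obj.left.obj // s ≫ W.obj.hom.hom = E.obj.hom}

/-- Restriction of such maps. -/
def hres {W : EtSpOver X} {E E' : EtOver X.obj} (g : E' ⟶ E) (s : hSec W E) : hSec W E' :=
  ⟨(yon S).map g.hom.left ≫ s.1, by rw [Category.assoc, s.2, EtOver.w]⟩

theorem over_w {W W' : EtSpOver X} (f : W ⟶ W') : f.hom.left.hom ≫ W'.obj.hom.hom = W.obj.hom.hom :=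
  congrArg (fun t => t.hom) (Over.w f.hom)

/-- Composition of such maps. -/
def hpush {W W' : EtSpOver X} (f : W ⟶ W') {E : EtOver X.obj} (s : hSec W E) : hSec W' E :=
  ⟨s.1 ≫ f.hom.left.hom, by rw [Category.assoc, over_w, s.2]⟩

theorem hres_hres {W : EtSpOver X} {E E' E'' : EtOver X.obj} (g' : E'' ⟶ E') (g : E' ⟶ E) (s : hSec W E) :
    hres g' (hres g s) = hres (g' ≫ g) s :=
  Subtype.ext ((Category.assoc _ _ _).symm.trans (congrArg (· ≫ s.1) ((yon S).map_comp _ _).symm))

theorem hres_hpush {W W' : EtSpOver X} (f : W ⟶ W') {E E' : EtOver X.obj} (g : E' ⟶ E) (s : hSec W E) :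
    hres g (hpush f s) = hpush f (hres g s) :=
  Subtype.ext (Category.assoc _ _ _).symm

/-- The presheaf of sets of a space etale over `X`. -/
def hPre (W : EtSpOver X) : (EtOver X.obj)ᵒᵖ ⥤ Type (u + 1) where
  obj E := hSec W E.unop
  map g := ↾ fun s => hres g.unop s
  map_id E := by
    refine ConcreteCategory.hom_ext _ _ fun s => ?_
    exact Subtype.ext ((congrArg (· ≫ s.1) ((yon S).map_id _)).trans (Category.id_comp _))
  map_comp g g' := by
    refine ConcreteCategory.hom_ext _ _ fun s => ?_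
    exact (hres_hres _ _ _).symm

/-- Its functoriality. -/
def hMap {W W' : EtSpOver X} (f : W ⟶ W') : hPre W ⟶ hPre W' where
  app E := ↾ fun s => hpush f s
  naturality E E' g := by
    refine ConcreteCategory.hom_ext _ _ fun s => ?_
    exact (hres_hpush f g.unop s).symm

theorem hMap_app_apply {W W' : EtSpOver X} (f : W ⟶ W') {E : EtOver X.obj} (s : hSec W E) :
    (hMap f).app (op E) s = hpush f s := rfl

variable {F : Sheaf (etTop X.obj) (Type (u + 1))}

theorem nat_apply {W : EtSpOver X} (a : hPre W ⟶ F.obj) {E E' : EtOver X.obj} (g : E' ⟶ E) (s : hSec W E) :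
    F.obj.map g.op (a.app (op E) s) = a.app (op E') (hres g s) :=
  (ConcreteCategory.congr_hom (a.naturality g.op) s).symm

theorem map_map' {E E' E'' : EtOver X.obj} (g' : E'' ⟶ E') (g : E' ⟶ E) (s : F.obj.obj (op E)) :
    F.obj.map g'.op (F.obj.map g.op s) = F.obj.map (g' ≫ g).op s := by
  rw [op_comp, Functor.map_comp]; rfl

theorem types_sheaf_ext {E : EtOver X.obj} {ι : Type*} {Y : ι → EtOver X.obj} {g : ∀ i, Y i ⟶ E}
    (hg : JointlySurj g) {s t : F.obj.obj (op E)} (h : ∀ i, F.obj.map (g i).op s = F.obj.map (g i).op t) :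
    s = t := by
  have hF := (isSheaf_iff_isSheaf_of_type _ _).1 F.property
  refine (hF _ (ofArrows_mem_etTop Y g hg)).isSeparatedFor.ext fun Z f hf => ?_
  obtain ⟨W, c, d, ⟨i⟩, rfl⟩ := hf
  show F.obj.map (c ≫ g i).op s = F.obj.map (c ≫ g i).op t
  rw [← map_map', ← map_map', h i]

theorem types_exists_glue {E : EtOver X.obj} {ι : Type*} {Y : ι → EtOver X.obj} {g : ∀ i, Y i ⟶ E}
    (hg : JointlySurj g) (y : ∀ i, F.obj.obj (op (Y i)))
    (hy : ∀ i j {W : EtOver X.obj} (p : W ⟶ Y i) (q : W ⟶ Y j), p ≫ g i = q ≫ g j →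
      F.obj.map p.op (y i) = F.obj.map q.op (y j)) :
    ∃ s : F.obj.obj (op E), ∀ i, F.obj.map (g i).op s = y i := by
  have hF := (isSheaf_iff_isSheaf_of_type _ _).1 F.property
  obtain ⟨s, hs, -⟩ := (Presieve.isSheafFor_arrows_iff F.obj g).1
    ((Presieve.isSheafFor_iff_generate _).2 (hF _ (ofArrows_mem_etTop Y g hg))) y fun i j W p q h => hy i j p q h
  exact ⟨s, hs⟩

/-- An object of the site etale over another. -/
abbrev etRes {E : EtOver X.obj} {O : Over S} (o : O ⟶ E.obj.left) (ho : Etale o.left) : EtOver X.obj :=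
  EtOver.mk ((yon S).map o ≫ E.obj.hom) (repWith_comp ((repWith_yon_map_iff _ _).2 ho) E.property)

/-- Its map. -/
abbrev etResHom {E : EtOver X.obj} {O : Over S} (o : O ⟶ E.obj.left) (ho : Etale o.left) : etRes o ho ⟶ E :=
  EtOver.homMk o rfl

variable {W U V UV : EtSpOver X} {j : U ⟶ W} {f : V ⟶ W} {p : UV ⟶ U} {q : UV ⟶ V}
  (hsq : IsElemDistSq j.hom.left.hom f.hom.left.hom)
  (hP : IsPullback p.hom.left.hom q.hom.left.hom j.hom.left.hom f.hom.left.hom)
  {a : hPre U ⟶ F.obj} {b : hPre V ⟶ F.obj} (hab : hMap p ≫ a = hMap q ≫ b)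

include hP hab in
theorem agree_UV {E : EtOver X.obj} (u : hSec U E) (v : hSec V E) (h : hpush j u = hpush f v) :
    a.app (op E) u = b.app (op E) v := by
  have w := congrArg Subtype.val h
  let x : hSec UV E := ⟨hP.lift u.1 v.1 w, by
    rw [← over_w p, ← Category.assoc, hP.lift_fst, u.2]⟩
  have h₁ : hpush p x = u := Subtype.ext (hP.lift_fst _ _ _)
  have h₂ : hpush q x = v := Subtype.ext (hP.lift_snd _ _ _)
  rw [← h₁, ← h₂, ← hMap_app_apply, ← hMap_app_apply]
  exact ConcreteCategory.congr_hom (congr_app hab (op E)) x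

include hsq in
/-- Two lifts to the etale part locally agree or lie over the open part. -/
theorem exists_open_agree {E : EtOver X.obj} (v₁ v₂ : hSec V E) (h : hpush f v₁ = hpush f v₂) (t : ↥E.obj.left.left) :
    ∃ (O : Over S) (o : O ⟶ E.obj.left) (ho : IsOpenImmersion o.left), t ∈ Set.range o.left ∧
      ((∃ u : hSec U (etRes o (inferInstance : Etale o.left)),
          hpush j u = hpush f (hres (etResHom o inferInstance) v₁) ∧
          hpush j u = hpush f (hres (etResHom o inferInstance) v₂)) ∨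
        hres (etResHom o (inferInstance : Etale o.left)) v₁ = hres (etResHom o inferInstance) v₂) := by
  have hv : v₁.1 ≫ f.hom.left.hom = v₂.1 ≫ f.hom.left.hom := congrArg Subtype.val h
  obtain ⟨hj, hf, Z, Y, i, y₁, y₂, hi, sqY, hy₁⟩ := hsq
  have hd : RepWith @IsOpenImmersion (pullback.diagonal f.hom.left.hom) :=
    repWith_diagonal_of_unramified V.obj.left.property W.obj.left.property
      (locP_mono etale_le_unramified (locP_of_isEtaleMor hf))
  by_cases ht : AlgSp.Points.ofPt (v₁.1 ≫ f.hom.left.hom) t ∈ Set.range (AlgSp.Points.map j.hom.left.hom)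
  · obtain ⟨O, o, fo, sqO⟩ := hj.rep (v₁.1 ≫ f.hom.left.hom)
    haveI ho : IsOpenImmersion o.left := hj.property _ fo o sqO
    obtain ⟨z, hz⟩ := ht
    obtain ⟨w, -, hw⟩ := (map_eq_ofPt_iff sqO z t).1 hz
    refine ⟨O, o, ho, ⟨w, hw⟩, ?_⟩
    let u : hSec U (etRes o (inferInstance : Etale o.left)) := ⟨fo, by
      rw [← over_w j, ← Category.assoc, sqO.w, Category.assoc, Category.assoc, over_w, v₁.2]; rfl⟩
    have h₁ : hpush j u = hpush f (hres (etResHom o inferInstance) v₁) :=
      Subtype.ext (sqO.w.trans (Category.assoc _ _ _).symm)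
    have h₂ : hpush j u = hpush f (hres (etResHom o inferInstance) v₂) :=
      h₁.trans (Subtype.ext ((Category.assoc _ _ _).trans ((congrArg ((yon S).map o ≫ ·) hv).trans
        (Category.assoc _ _ _).symm)))
    exact Or.inl ⟨u, h₁, h₂⟩
  · obtain ⟨O, e, fe, sqE⟩ := hd.rep (pullback.lift v₁.1 v₂.1 hv)
    haveI he' : IsOpenImmersion e.left := hd.property _ fe e sqE
    have he : (yon S).map e ≫ v₁.1 = (yon S).map e ≫ v₂.1 := by
      have h₁ := sqE.w =≫ pullback.fst f.hom.left.hom f.hom.left.hom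
      have h₂ := sqE.w =≫ pullback.snd f.hom.left.hom f.hom.left.hom
      simp only [Category.assoc, pullback.diagonal_fst, pullback.diagonal_snd, Category.comp_id,
        pullback.lift_fst, pullback.lift_snd] at h₁ h₂
      rw [← h₁, ← h₂]
    refine ⟨O, e, he', ?_, ?_⟩
    · obtain ⟨l, hl⟩ := exists_fac_residue_of_range hi.1 (v₁.1 ≫ f.hom.left.hom) t (hi.2.1.ge ht)
      let κ : (FieldPt.ofPt (v₁.1 ≫ f.hom.left.hom) t).pt ⟶ E.obj.left :=
        Over.homMk (E.obj.left.left.fromSpecResidueField t) rfl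
      replace hl : l ≫ i = (yon S).map κ ≫ v₁.1 ≫ f.hom.left.hom := hl
      have key : (yon S).map κ ≫ v₁.1 = (yon S).map κ ≫ v₂.1 := by
        have w₁ : l ≫ i = ((yon S).map κ ≫ v₁.1) ≫ f.hom.left.hom := by rw [hl, Category.assoc]
        have w₂ : l ≫ i = ((yon S).map κ ≫ v₂.1) ≫ f.hom.left.hom := by rw [hl, Category.assoc, hv]
        rw [← sqY.lift_snd l _ w₁, ← sqY.lift_snd l _ w₂]
        congr 1
        rw [← cancel_mono y₁, sqY.lift_fst, sqY.lift_fst]
      have wE : ((yon S).map κ ≫ v₁.1) ≫ pullback.diagonal f.hom.left.hom =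
          (yon S).map κ ≫ pullback.lift v₁.1 v₂.1 hv := by
        apply pullback.hom_ext
        · simp only [Category.assoc]
          erw [pullback.diagonal_fst, pullback.lift_fst]
          rw [Category.comp_id]
        · simp only [Category.assoc]
          erw [pullback.diagonal_snd, pullback.lift_snd]
          rw [Category.comp_id, key]
      obtain ⟨m, hm⟩ := (yon S).map_surjective (sqE.lift _ _ wE)
      have hme : m ≫ e = κ := (yon S).map_injective (by rw [Functor.map_comp, hm, sqE.lift_snd])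
      refine ⟨m.left (IsLocalRing.closedPoint _), ?_⟩
      rw [← Scheme.Hom.comp_apply, ← Over.comp_left, hme]
      exact Scheme.fromSpecResidueField_apply t _
    · exact Or.inr (Subtype.ext he)

include hsq hP hab in
/-- Two lifts to the etale part give the same value. -/
theorem agree_VV {E : EtOver X.obj} (v₁ v₂ : hSec V E) (h : hpush f v₁ = hpush f v₂) :
    b.app (op E) v₁ = b.app (op E) v₂ := by
  choose O o ho ht he using exists_open_agree hsq v₁ v₂ h
  refine types_sheaf_ext (Y := fun t => etRes (o t) (have := ho t; inferInstance))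
    (g := fun t => etResHom (o t) (have := ho t; inferInstance)) (fun t => ⟨t, ht t⟩) fun t => ?_
  rw [nat_apply, nat_apply]
  rcases he t with ⟨u, h₁, h₂⟩ | h'
  · rw [← agree_UV hP hab u _ h₁, ← agree_UV hP hab u _ h₂]
  · rw [h']

variable (a b) in
/-- A value of a lift of a map into `W`. -/
def Good (j : U ⟶ W) (f : V ⟶ W) {E : EtOver X.obj} (s : hSec W E) (y : F.obj.obj (op E)) : Prop :=
  (∃ u, hpush j u = s ∧ a.app (op E) u = y) ∨ (∃ v, hpush f v = s ∧ b.app (op E) v = y)

theorem Good.res {E E' : EtOver X.obj} (g : E' ⟶ E) {s : hSec W E} {y : F.obj.obj (op E)}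
    (h : Good a b j f s y) : Good a b j f (hres g s) (F.obj.map g.op y) := by
  rcases h with ⟨u, rfl, rfl⟩ | ⟨v, rfl, rfl⟩
  · exact Or.inl ⟨hres g u, (hres_hpush j g u).symm, (nat_apply a g u).symm⟩
  · exact Or.inr ⟨hres g v, (hres_hpush f g v).symm, (nat_apply b g v).symm⟩

include hsq hP hab in
theorem good_unique {E : EtOver X.obj} {s : hSec W E} {y y' : F.obj.obj (op E)}
    (h : Good a b j f s y) (h' : Good a b j f s y') : y = y' := by
  rcases h with ⟨u, rfl, rfl⟩ | ⟨v, rfl, rfl⟩ <;> rcases h' with ⟨u', e, rfl⟩ | ⟨v', e, rfl⟩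
  · have : Mono j.hom.left.hom :=
      mono_of_repWith (fun _ _ g (_ : IsOpenImmersion g) => (inferInstance : Mono g)) hsq.1
    rw [show u = u' from Subtype.ext ((cancel_mono j.hom.left.hom).1 (congrArg Subtype.val e.symm))]
  · exact agree_UV hP hab u v' e.symm
  · exact (agree_UV hP hab u' v e).symm
  · exact agree_VV hsq hP hab v v' e.symm

include hsq in
/-- Locally every map into `W` lifts. -/
theorem exists_cover_good (a : hPre U ⟶ F.obj) (b : hPre V ⟶ F.obj) {E : EtOver X.obj} (s : hSec W E) :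
    ∃ (Y : Bool → EtOver X.obj) (g : ∀ i, Y i ⟶ E), JointlySurj g ∧ ∀ i, ∃ y, Good a b j f (hres (g i) s) y := by
  obtain ⟨hj, hf, Z, P, i, y₁, y₂, hi, sqY, hy₁⟩ := hsq
  obtain ⟨O, o, fo, sqO⟩ := hj.rep s.1
  haveI : IsOpenImmersion o.left := hj.property _ fo o sqO
  obtain ⟨V₀, pV, hpV, hpVs⟩ := V.obj.left.property.atlas
  have hg : RepWith @Etale (pV ≫ f.hom.left.hom) := hf pV hpV
  obtain ⟨R, r₁, r₂, sqR⟩ := exists_pullback_of_diag W.obj.left.property.diag (pV ≫ f.hom.left.hom) s.1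
  have hr₂ : Etale r₂.left := hg.property s.1 _ r₂ sqR
  let u : hSec U (etRes o (inferInstance : Etale o.left)) := ⟨fo, by
    rw [← over_w j, ← Category.assoc, sqO.w, Category.assoc, s.2]; rfl⟩
  let v : hSec V (etRes r₂ hr₂) := ⟨(yon S).map r₁ ≫ pV, by
    rw [← over_w f, ← Category.assoc, Category.assoc _ pV, sqR.w, Category.assoc, s.2]; rfl⟩
  refine ⟨fun k => cond k (etRes o inferInstance) (etRes r₂ hr₂),
    fun k => match k with | true => etResHom o inferInstance | false => etResHom r₂ hr₂, fun t => ?_, fun k => ?_⟩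
  · by_cases ht : AlgSp.Points.ofPt s.1 t ∈ Set.range (AlgSp.Points.map j.hom.left.hom)
    · obtain ⟨z, hz⟩ := ht
      obtain ⟨w, -, hw⟩ := (map_eq_ofPt_iff sqO z t).1 hz
      exact ⟨true, w, hw⟩
    · obtain ⟨z, hz⟩ := hi.2.1.ge ht
      obtain ⟨v₀, hv₀⟩ := surjective_ofPt_of_repWith hpVs (AlgSp.Points.map (inv y₁ ≫ y₂) z)
      have e : AlgSp.Points.ofPt (pV ≫ f.hom.left.hom) v₀ = AlgSp.Points.ofPt s.1 t := by
        rw [← AlgSp.Points.map_ofPt, hv₀, ← AlgSp.Points.map_comp, Category.assoc, ← sqY.w,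
          IsIso.inv_hom_id_assoc, hz]
      obtain ⟨w, -, hw⟩ := (ofPt_eq_ofPt_iff sqR v₀ t).1 e
      exact ⟨false, w, hw⟩
  · cases k
    · exact ⟨_, Or.inr ⟨v, Subtype.ext ((Category.assoc _ _ _).trans sqR.w), rfl⟩⟩
    · exact ⟨_, Or.inl ⟨u, Subtype.ext sqO.w, rfl⟩⟩

include hsq hP hab in
/-- The pushout property. -/
theorem existsUnique_desc : ∃! m : hPre W ⟶ F.obj, hMap j ≫ m = a ∧ hMap f ≫ m = b := by
  let Val : ∀ E : EtOver X.obj, hSec W E → F.obj.obj (op E) → Prop := fun E s y =>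
    ∀ (E' : EtOver X.obj) (g : E' ⟶ E) (y' : F.obj.obj (op E')), Good a b j f (hres g s) y' → F.obj.map g.op y = y'
  have hex : ∀ E s, ∃ y, Val E s y := fun E s => by
    let ι := Σ (E' : EtOver X.obj) (g : E' ⟶ E), {y' : F.obj.obj (op E') // Good a b j f (hres g s) y'}
    obtain ⟨Y, g, hg, hy⟩ := exists_cover_good hsq a b s
    choose y hy using hy
    obtain ⟨x, hx⟩ := types_exists_glue (F := F) (ι := ι) (g := fun l => l.2.1) (fun t => by
      obtain ⟨i, hi⟩ := hg t
      exact ⟨⟨Y i, g i, y i, hy i⟩, hi⟩) (fun l => l.2.2.1) fun l l' W' c d e => by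
      refine good_unique hsq hP hab (l.2.2.2.res c) ?_
      rw [hres_hres, e, ← hres_hres]
      exact l'.2.2.2.res d
    exact ⟨x, fun E' h y' hy' => hx ⟨E', h, y', hy'⟩⟩
  have huniq : ∀ E s y y', Val E s y → Val E s y' → y = y' := fun E s y y' h h' => by
    obtain ⟨Y, g, hg, hy⟩ := exists_cover_good hsq a b s
    refine types_sheaf_ext hg fun i => ?_
    obtain ⟨z, hz⟩ := hy i
    rw [h _ _ _ hz, h' _ _ _ hz]
  choose m hm using hex
  let M : hPre W ⟶ F.obj :=
    { app := fun E => ↾ fun s => m E.unop s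
      naturality := fun E E' g => by
        refine ConcreteCategory.hom_ext _ _ fun s => ?_
        refine huniq _ _ _ _ (hm _ _) fun E'' h y' hy' => ?_
        exact (map_map' (F := F) h g.unop _).trans (hm _ _ _ _ _ ((hres_hres h g.unop s).symm ▸ hy')) }
  have hgood : ∀ E s y, Good a b j f s y → Val E s y := fun E s y h E' g y' hy' =>
    good_unique hsq hP hab (h.res g) hy'
  refine ⟨M, ⟨?_, ?_⟩, fun M' hM' => ?_⟩
  · refine NatTrans.ext (funext fun E => ConcreteCategory.hom_ext _ _ fun u => ?_)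
    exact huniq _ _ _ _ (hm _ _) (hgood _ _ _ (Or.inl ⟨u, rfl, rfl⟩))
  · refine NatTrans.ext (funext fun E => ConcreteCategory.hom_ext _ _ fun v => ?_)
    exact huniq _ _ _ _ (hm _ _) (hgood _ _ _ (Or.inr ⟨v, rfl, rfl⟩))
  · refine NatTrans.ext (funext fun E => ConcreteCategory.hom_ext _ _ fun s => ?_)
    refine huniq _ _ _ _ (fun E' g y' hy' => ?_) (hm _ _)
    rw [nat_apply M' g s]
    rcases hy' with ⟨u, hu, rfl⟩ | ⟨v, hv, rfl⟩
    · rw [← hu]
      exact ConcreteCategory.congr_hom (congr_app hM'.1 (op E')) u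
    · rw [← hv]
      exact ConcreteCategory.congr_hom (congr_app hM'.2 (op E')) v

end Groth.EtVan

end
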