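import Groth.Agent.ModEtQCoh.Vanish.SquareExt
import Groth.Agent.ModEtQCoh.EpiLocSurj
import Groth.Prelude.Def_W4SpPerfMV

/-!
# The Mayer-Vietoris sequence of direct images of modules for a square of schemes
-/

set_option autoImplicit false
set_option backward.isDefEq.respectTransparency.types false
set_option linter.style.haveILetI false
universe u

open CategoryTheory CategoryTheory.Limits AlgebraicGeometry Opposite AlgSp Groth.AlgSpBasic Groth.ModEtQCoh

noncomputable section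

namespace Groth.EtVan

variable {S : Scheme.{u}} {X : AlgSp.Space S}

/-- A short complex of abelian sheaves exact on sections and locally surjective is short exact. -/
theorem shortExact_of_sections {C : ShortComplex (AbEt X.obj)}
    (hinj : ∀ E, Function.Injective (C.f.hom.app (op E)))
    (hex : ∀ E (y : C.X₂.obj.obj (op E)), C.g.hom.app (op E) y = 0 → ∃ x, C.f.hom.app (op E) x = y)
    (hsurj : ∀ E (z : C.X₃.obj.obj (op E)), Presheaf.imageSieve C.g.hom z ∈ etTop X.obj E) : C.ShortExact := by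
  haveI : ∀ E, Mono (C.f.hom.app E) := fun E => (AddCommGrpCat.mono_iff_injective _).2 (hinj E.unop)
  haveI : Mono C.f.hom := NatTrans.mono_of_mono_app _
  haveI : Mono C.f := (sheafToPresheaf (etTop X.obj) AddCommGrpCat.{u + 1}).mono_of_mono_map ‹_›
  haveI : Sheaf.IsLocallySurjective C.g := ⟨fun z => hsurj _ z⟩
  haveI : Epi C.g :=
    (Sheaf.isLocallySurjective_iff_epi' AddCommGrpCat.{u + 1} C.g).1 inferInstance
  refine { exact := ShortComplex.exact_of_f_is_kernel _ (KernelFork.IsLimit.ofι' _ _ fun {T} k hk => ?_) }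
  have h0 : ∀ (E : (EtOver X.obj)ᵒᵖ) (s : T.obj.obj E), C.g.hom.app E (k.hom.app E s) = 0 := fun E s =>
    congrArg (fun t : T ⟶ C.X₃ => t.hom.app E s) hk
  choose l hl using fun (E : (EtOver X.obj)ᵒᵖ) (s : T.obj.obj E) => hex E.unop _ (h0 E s)
  refine ⟨⟨{
    app := fun E => AddCommGrpCat.ofHom (AddMonoidHom.mk' (l E) fun s t => hinj E.unop (by
      rw [map_add, hl, hl, hl, map_add]))
    naturality := fun E E' g => by
      refine AddCommGrpCat.hom_ext (AddMonoidHom.ext fun s => hinj E'.unop ?_)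
      show C.f.hom.app _ (l E' (T.obj.map g s)) = C.f.hom.app _ (C.X₁.obj.map g (l E s))
      refine (hl _ _).trans ?_
      refine (ConcreteCategory.congr_hom (k.hom.naturality g) s).trans ?_
      refine Eq.trans ?_ (ConcreteCategory.congr_hom (C.f.hom.naturality g) (l E s)).symm
      exact congrArg (C.X₂.obj.map g) (hl _ _).symm }⟩, ?_⟩
  exact Sheaf.hom_ext (NatTrans.ext (funext fun E => AddCommGrpCat.hom_ext (AddMonoidHom.ext fun s => hl E s)))

variable {U V : EtOver X.obj} (hsq : IsElemDistSq U.obj.hom V.obj.hom)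

/-- The structure map as a map of spaces over `X`. -/
def toSelf (U : EtOver X.obj) : (EtOver.toEtSpOver X).obj U ⟶ selfObj X :=
  ObjectProperty.homMk (Over.homMk (ObjectProperty.homMk U.obj.hom) (Category.comp_id _))

include hsq in
theorem subterminal_open {E : EtOver X.obj} (u u' : E ⟶ U) : u = u' := by
  have : Mono U.obj.hom :=
    mono_of_repWith (fun _ _ g (_ : IsOpenImmersion g) => (inferInstance : Mono g)) hsq.1
  exact EtOver.hom_ext _ _ ((yon S).map_injective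
    ((cancel_mono U.obj.hom).1 ((EtOver.w u).trans (EtOver.w u').symm)))

include hsq in
/-- Locally every object maps to one of the two parts. -/
theorem exists_lift_or (W : EtOver X.obj) (t : ↥W.obj.left.left) :
    ∃ (E : EtOver X.obj) (g : E ⟶ W), t ∈ Set.range g.hom.left.left ∧ (Nonempty (E ⟶ U) ∨ Nonempty (E ⟶ V)) := by
  let s : hSec (selfObj X) W := ⟨W.obj.hom, Category.comp_id _⟩
  have hsq' : IsElemDistSq (toSelf U).hom.left.hom (toSelf V).hom.left.hom := hsq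
  obtain ⟨Y, g, hg, hy⟩ := exists_cover_good (F := ⟨(Functor.const _).obj PUnit.{u + 2},
    Presheaf.isSheaf_of_isTerminal _ Types.isTerminalPUnit⟩) hsq'
    ({ app := fun _ => ↾ fun _ => PUnit.unit } : hPre _ ⟶ _) ({ app := fun _ => ↾ fun _ => PUnit.unit }) s
  obtain ⟨i, hi⟩ := hg t
  refine ⟨Y i, g i, hi, ?_⟩
  obtain ⟨_, ⟨⟨u, hu⟩, -, -⟩ | ⟨⟨v, hv⟩, -, -⟩⟩ := hy i
  · obtain ⟨u', rfl⟩ := (yon S).map_surjective u
    exact Or.inl ⟨EtOver.homMk u' hu⟩
  · obtain ⟨v', rfl⟩ := (yon S).map_surjective v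
    exact Or.inr ⟨EtOver.homMk v' hv⟩

include hsq in
/-- Locally two maps to the etale part agree or the source maps to the open part. -/
theorem exists_open_eq {E : EtOver X.obj} (v₁ v₂ : E ⟶ V) (t : ↥E.obj.left.left) :
    ∃ (E' : EtOver X.obj) (g : E' ⟶ E), t ∈ Set.range g.hom.left.left ∧ (Nonempty (E' ⟶ U) ∨ g ≫ v₁ = g ≫ v₂) := by
  have hsq' : IsElemDistSq (toSelf U).hom.left.hom (toSelf V).hom.left.hom := hsq
  let sec : (E ⟶ V) → hSec ((EtOver.toEtSpOver X).obj V) E := fun v => ⟨(yon S).map v.hom.left, EtOver.w v⟩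
  obtain ⟨O, o, ho, ht, h⟩ := exists_open_agree hsq' (sec v₁) (sec v₂)
    (Subtype.ext ((EtOver.w v₁).trans (EtOver.w v₂).symm)) t
  refine ⟨_, etResHom o inferInstance, ht, ?_⟩
  rcases h with ⟨⟨u, hu⟩, -, -⟩ | h
  · obtain ⟨u', rfl⟩ := (yon S).map_surjective u
    exact Or.inl ⟨EtOver.homMk u' hu⟩
  · refine Or.inr (EtOver.hom_ext _ _ ((yon S).map_injective ?_))
    exact ((yon S).map_comp _ _).trans ((congrArg Subtype.val h).trans ((yon S).map_comp _ _).symm)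

/-- The pairing into the product of the two parts. -/
def liftQ {E : EtOver X.obj} (u : E ⟶ U) (v : E ⟶ V) : E ⟶ EtOver.prodObj U V :=
  (EtOver.prodIsLimit U V).lift (BinaryFan.mk u v)

theorem liftQ_fst {E : EtOver X.obj} (u : E ⟶ U) (v : E ⟶ V) : liftQ u v ≫ EtOver.prodFst U V = u :=
  (EtOver.prodIsLimit U V).fac (BinaryFan.mk u v) ⟨WalkingPair.left⟩

theorem liftQ_snd {E : EtOver X.obj} (u : E ⟶ U) (v : E ⟶ V) : liftQ u v ≫ EtOver.prodSnd U V = v :=
  (EtOver.prodIsLimit U V).fac (BinaryFan.mk u v) ⟨WalkingPair.right⟩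

theorem liftQ_unique {E : EtOver X.obj} (q q' : E ⟶ EtOver.prodObj U V)
    (h₁ : q ≫ EtOver.prodFst U V = q' ≫ EtOver.prodFst U V)
    (h₂ : q ≫ EtOver.prodSnd U V = q' ≫ EtOver.prodSnd U V) : q = q' :=
  BinaryFan.IsLimit.hom_ext (EtOver.prodIsLimit U V) h₁ h₂

theorem comp_liftQ {E E' : EtOver X.obj} (k : E' ⟶ E) (u : E ⟶ U) (v : E ⟶ V) :
    k ≫ liftQ u v = liftQ (k ≫ u) (k ≫ v) :=
  liftQ_unique _ _ (by rw [Category.assoc, liftQ_fst, liftQ_fst]) (by rw [Category.assoc, liftQ_snd, liftQ_snd])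

section

variable (A : AbEt X.obj) (W : EtOver X.obj)

include hsq in
theorem mv_injective {x y : A.obj.obj (op W)}
    (h₁ : A.obj.map (prod.snd : U ⨯ W ⟶ W).op x = A.obj.map (prod.snd : U ⨯ W ⟶ W).op y)
    (h₂ : A.obj.map (prod.snd : V ⨯ W ⟶ W).op x = A.obj.map (prod.snd : V ⨯ W ⟶ W).op y) : x = y := by
  choose E g ht hl using exists_lift_or hsq W
  refine sheaf_ext A (g := g) (fun t => ⟨t, ht t⟩) fun t => ?_
  rcases hl t with ⟨⟨u⟩⟩ | ⟨⟨v⟩⟩
  · have h := congrArg (A.obj.map (prod.lift u (g t)).op) h₁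
    rwa [map_map, map_map, prod.lift_snd] at h
  · have h := congrArg (A.obj.map (prod.lift v (g t)).op) h₂
    rwa [map_map, map_map, prod.lift_snd] at h

include hsq in
theorem mv_middle (sU : A.obj.obj (op (U ⨯ W))) (sV : A.obj.obj (op (V ⨯ W)))
    (h : A.obj.map (prod.map (EtOver.prodFst U V) (𝟙 W)).op sU = A.obj.map (prod.map (EtOver.prodSnd U V) (𝟙 W)).op sV) :
    ∃ x, A.obj.map (prod.snd : U ⨯ W ⟶ W).op x = sU ∧ A.obj.map (prod.snd : V ⨯ W ⟶ W).op x = sV := by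
  let ι := Σ (E : EtOver X.obj) (g : E ⟶ W), {y : A.obj.obj (op E) //
    (∃ u : E ⟶ U, y = A.obj.map (prod.lift u g).op sU) ∨ (∃ v : E ⟶ V, y = A.obj.map (prod.lift v g).op sV)}
  have hUV : ∀ {E : EtOver X.obj} (g : E ⟶ W) (u : E ⟶ U) (v : E ⟶ V),
      A.obj.map (prod.lift u g).op sU = A.obj.map (prod.lift v g).op sV := fun g u v => by
    have e := congrArg (A.obj.map (prod.lift (liftQ u v) g).op) h
    rwa [map_map, map_map, prod.lift_map, prod.lift_map, liftQ_fst, liftQ_snd, Category.comp_id] at e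
  have hres : ∀ {E E' : EtOver X.obj} (k : E' ⟶ E) {g : E ⟶ W} {y : A.obj.obj (op E)},
      ((∃ u : E ⟶ U, y = A.obj.map (prod.lift u g).op sU) ∨ (∃ v : E ⟶ V, y = A.obj.map (prod.lift v g).op sV)) →
      ((∃ u : E' ⟶ U, A.obj.map k.op y = A.obj.map (prod.lift u (k ≫ g)).op sU) ∨
        (∃ v : E' ⟶ V, A.obj.map k.op y = A.obj.map (prod.lift v (k ≫ g)).op sV)) := by
    rintro E E' k g y (⟨u, rfl⟩ | ⟨v, rfl⟩)
    · exact Or.inl ⟨k ≫ u, by rw [map_map, prod.comp_lift]⟩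
    · exact Or.inr ⟨k ≫ v, by rw [map_map, prod.comp_lift]⟩
  have huniq : ∀ {E : EtOver X.obj} {g : E ⟶ W} {y y' : A.obj.obj (op E)},
      ((∃ u : E ⟶ U, y = A.obj.map (prod.lift u g).op sU) ∨ (∃ v : E ⟶ V, y = A.obj.map (prod.lift v g).op sV)) →
      ((∃ u : E ⟶ U, y' = A.obj.map (prod.lift u g).op sU) ∨ (∃ v : E ⟶ V, y' = A.obj.map (prod.lift v g).op sV)) →
      y = y' := by
    rintro E g y y' (⟨u, rfl⟩ | ⟨v, rfl⟩) (⟨u', rfl⟩ | ⟨v', rfl⟩)
    · rw [subterminal_open hsq u u']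
    · exact hUV g u v'
    · exact (hUV g u' v).symm
    · choose E' k ht hl using exists_open_eq hsq v v'
      refine sheaf_ext A (g := k) (fun t => ⟨t, ht t⟩) fun t => ?_
      rw [map_map, map_map, prod.comp_lift, prod.comp_lift]
      rcases hl t with ⟨⟨u⟩⟩ | e
      · rw [← hUV _ u, ← hUV _ u]
      · rw [e]
  obtain ⟨x, hx⟩ := exists_glue A (ι := ι) (g := fun l => l.2.1) (fun t => by
    obtain ⟨E, g, ht, ⟨⟨u⟩⟩ | ⟨⟨v⟩⟩⟩ := exists_lift_or hsq W t
    · exact ⟨⟨E, g, _, Or.inl ⟨u, rfl⟩⟩, ht⟩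
    · exact ⟨⟨E, g, _, Or.inr ⟨v, rfl⟩⟩, ht⟩) (fun l => l.2.2.1) fun l l' E c d e => by
    refine huniq (g := c ≫ l.2.1) (hres c l.2.2.2) ?_
    rw [e]
    exact hres d l'.2.2.2
  refine ⟨x, ?_, ?_⟩
  · refine (hx ⟨U ⨯ W, prod.snd, sU, Or.inl ⟨prod.fst, ?_⟩⟩)
    rw [prod.lift_fst_snd, op_id, A.obj.map_id]; rfl
  · refine (hx ⟨V ⨯ W, prod.snd, sV, Or.inr ⟨prod.fst, ?_⟩⟩)
    rw [prod.lift_fst_snd, op_id, A.obj.map_id]; rfl

include hsq in
theorem mv_locally_surjective (r : A.obj.obj (op (EtOver.prodObj U V ⨯ W))) (t : ↥W.obj.left.left) :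
    ∃ (E : EtOver X.obj) (g : E ⟶ W), t ∈ Set.range g.hom.left.left ∧
      ∃ (sU : A.obj.obj (op (U ⨯ E))) (sV : A.obj.obj (op (V ⨯ E))),
        A.obj.map (prod.map (EtOver.prodFst U V) (𝟙 E)).op sU - A.obj.map (prod.map (EtOver.prodSnd U V) (𝟙 E)).op sV =
          A.obj.map (prod.map (𝟙 (EtOver.prodObj U V)) g).op r := by
  obtain ⟨E, g, ht, hl⟩ := exists_lift_or hsq W t
  refine ⟨E, g, ht, ?_⟩
  let val : ∀ {T : EtOver X.obj}, (T ⟶ U) → (T ⟶ V) → (T ⟶ W) → A.obj.obj (op T) :=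
    fun u v γ => A.obj.map (prod.lift (liftQ u v) γ).op r
  have hval : ∀ {T T' : EtOver X.obj} (k : T' ⟶ T) (u : T ⟶ U) (v : T ⟶ V) (γ : T ⟶ W),
      A.obj.map k.op (val u v γ) = val (k ≫ u) (k ≫ v) (k ≫ γ) := fun k u v γ => by
    simp only [val]
    rw [map_map, prod.comp_lift, comp_liftQ]
  have hid : A.obj.map (prod.map (𝟙 (EtOver.prodObj U V)) g).op r =
      val (prod.fst ≫ EtOver.prodFst U V) (prod.fst ≫ EtOver.prodSnd U V) (prod.snd ≫ g) := by
    simp only [val]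
    refine congrArg (fun m : EtOver.prodObj U V ⨯ E ⟶ EtOver.prodObj U V ⨯ W => A.obj.map (Quiver.Hom.op m) r) ?_
    apply Limits.prod.hom_ext
    · rw [prod.map_fst, prod.lift_fst, Category.comp_id]
      exact liftQ_unique _ _ (liftQ_fst _ _).symm (liftQ_snd _ _).symm
    · rw [prod.map_snd, prod.lift_snd]
  rw [hid]
  rcases hl with ⟨⟨u₀⟩⟩ | ⟨⟨v₀⟩⟩
  · refine ⟨0, -val (prod.snd ≫ u₀) prod.fst (prod.snd ≫ g), ?_⟩
    rw [map_zero, map_neg, hval, zero_sub, neg_neg]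
    simp only [prod.map_fst, prod.map_snd_assoc, Category.id_comp, Category.comp_id]
    rw [subterminal_open hsq (prod.snd ≫ u₀) (prod.fst ≫ EtOver.prodFst U V)]
  · let Vv : ∀ {T : EtOver X.obj}, (T ⟶ V ⨯ E) → (T ⟶ U) → A.obj.obj (op T) := fun h u =>
      -(val u (h ≫ prod.fst) (h ≫ prod.snd ≫ g) - val u (h ≫ prod.snd ≫ v₀) (h ≫ prod.snd ≫ g))
    let Good' : ∀ {T : EtOver X.obj}, (T ⟶ V ⨯ E) → A.obj.obj (op T) → Prop := fun h y =>
      (∃ u, y = Vv h u) ∨ (y = 0 ∧ h ≫ prod.fst = h ≫ prod.snd ≫ v₀)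
    have hres : ∀ {T T' : EtOver X.obj} (k : T' ⟶ T) {h : T ⟶ V ⨯ E} {y : A.obj.obj (op T)},
        Good' h y → Good' (k ≫ h) (A.obj.map k.op y) := by
      rintro T T' k h y (⟨u, rfl⟩ | ⟨rfl, e⟩)
      · refine Or.inl ⟨k ≫ u, ?_⟩
        simp only [Vv, map_neg, map_sub, hval, Category.assoc]
      · exact Or.inr ⟨map_zero _, by rw [Category.assoc, e, Category.assoc]⟩
    have huniq : ∀ {T : EtOver X.obj} {h : T ⟶ V ⨯ E} {y y' : A.obj.obj (op T)}, Good' h y → Good' h y' → y = y' := by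
      rintro T h y y' (⟨u, rfl⟩ | ⟨rfl, e⟩) (⟨u', rfl⟩ | ⟨rfl, e'⟩)
      · rw [subterminal_open hsq u u']
      · simp only [Vv, e', sub_self, neg_zero]
      · simp only [Vv, e, sub_self, neg_zero]
      · rfl
    let ι := Σ (T : EtOver X.obj) (h : T ⟶ V ⨯ E), {y : A.obj.obj (op T) // Good' h y}
    obtain ⟨sV, hsV⟩ := exists_glue A (ι := ι) (g := fun l => l.2.1) (fun s => by
      obtain ⟨T, h, hs, ⟨⟨u⟩⟩ | e⟩ := exists_open_eq hsq prod.fst (prod.snd ≫ v₀) s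
      · exact ⟨⟨T, h, _, Or.inl ⟨u, rfl⟩⟩, hs⟩
      · exact ⟨⟨T, h, 0, Or.inr ⟨rfl, e⟩⟩, hs⟩) (fun l => l.2.2.1) fun l l' T c d e => by
      refine huniq (h := c ≫ l.2.1) (hres c l.2.2.2) ?_
      rw [e]
      exact hres d l'.2.2.2
    refine ⟨val prod.fst (prod.snd ≫ v₀) (prod.snd ≫ g), sV, ?_⟩
    have hkey := hsV ⟨_, prod.map (EtOver.prodSnd U V) (𝟙 E), _, Or.inl ⟨prod.fst ≫ EtOver.prodFst U V, rfl⟩⟩
    rw [hkey, hval]
    simp only [Vv, prod.map_fst, prod.map_snd_assoc, Category.id_comp, Category.comp_id]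
    abel

end

section

variable {M N P : ModEt X.obj}

/-- Sections of a map of modules. -/
abbrev sApp (φ : M ⟶ N) (E : EtOver X.obj) :
    ((toAbEt X.obj).obj M).obj.obj (op E) ⟶ ((toAbEt X.obj).obj N).obj.obj (op E) :=
  ((toAbEt X.obj).map φ).hom.app (op E)

theorem sApp_comp (φ : M ⟶ N) (ψ : N ⟶ P) (E : EtOver X.obj) (x : ((toAbEt X.obj).obj M).obj.obj (op E)) :
    sApp ψ E (sApp φ E x) = sApp (φ ≫ ψ) E x := rfl

theorem sApp_id (E : EtOver X.obj) (x : ((toAbEt X.obj).obj M).obj.obj (op E)) : sApp (𝟙 M) E x = x := rfl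

theorem sApp_zero (E : EtOver X.obj) (x : ((toAbEt X.obj).obj M).obj.obj (op E)) : sApp (0 : M ⟶ N) E x = 0 := rfl

theorem sApp_add (φ ψ : M ⟶ N) (E : EtOver X.obj) (x : ((toAbEt X.obj).obj M).obj.obj (op E)) :
    sApp (φ + ψ) E x = sApp φ E x + sApp ψ E x := rfl

theorem sApp_neg (φ : M ⟶ N) (E : EtOver X.obj) (x : ((toAbEt X.obj).obj M).obj.obj (op E)) :
    sApp (-φ) E x = -sApp φ E x := rfl

theorem sApp_biprod_ext (E : EtOver X.obj) {z z' : ((toAbEt X.obj).obj (M ⊞ N)).obj.obj (op E)}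
    (h₁ : sApp biprod.fst E z = sApp biprod.fst E z') (h₂ : sApp biprod.snd E z = sApp biprod.snd E z') : z = z' := by
  have key : ∀ w, w = sApp biprod.inl E (sApp (biprod.fst : M ⊞ N ⟶ M) E w) +
      sApp biprod.inr E (sApp (biprod.snd : M ⊞ N ⟶ N) E w) := fun w => by
    rw [sApp_comp, sApp_comp, ← sApp_add, biprod.total, sApp_id]
  rw [key z, key z', h₁, h₂]

theorem sApp_desc (E : EtOver X.obj) (φ : M ⟶ P) (ψ : N ⟶ P) (z : ((toAbEt X.obj).obj (M ⊞ N)).obj.obj (op E)) :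
    sApp (biprod.desc φ ψ) E z = sApp φ E (sApp biprod.fst E z) + sApp ψ E (sApp biprod.snd E z) := by
  rw [biprod.desc_eq, sApp_add, sApp_comp, sApp_comp]

theorem exists_sApp_biprod (E : EtOver X.obj) (a : ((toAbEt X.obj).obj M).obj.obj (op E))
    (b : ((toAbEt X.obj).obj N).obj.obj (op E)) :
    ∃ z : ((toAbEt X.obj).obj (M ⊞ N)).obj.obj (op E), sApp biprod.fst E z = a ∧ sApp biprod.snd E z = b := by
  refine ⟨sApp biprod.inl E a + sApp biprod.inr E b, ?_, ?_⟩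
  · rw [map_add, sApp_comp, sApp_comp, biprod.inl_fst, biprod.inr_fst, sApp_id, sApp_zero, add_zero]
  · rw [map_add, sApp_comp, sApp_comp, biprod.inl_snd, biprod.inr_snd, sApp_id, sApp_zero, zero_add]

set_option maxHeartbeats 800000 in
theorem shortExact_biprod_of_sections {M₁ M₂ : ModEt X.obj} (f₁ : M ⟶ M₁) (f₂ : M ⟶ M₂) (g₁ : M₁ ⟶ P) (g₂ : M₂ ⟶ P)
    (hw : ∀ E x, sApp g₁ E (sApp f₁ E x) = sApp g₂ E (sApp f₂ E x))
    (hinj : ∀ E x y, sApp f₁ E x = sApp f₁ E y → sApp f₂ E x = sApp f₂ E y → x = y)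
    (hmid : ∀ E a b, sApp g₁ E a = sApp g₂ E b → ∃ x, sApp f₁ E x = a ∧ sApp f₂ E x = b)
    (hloc : ∀ E (r : ((toAbEt X.obj).obj P).obj.obj (op E)) (t : ↥E.obj.left.left), ∃ (E' : EtOver X.obj) (γ : E' ⟶ E),
      t ∈ Set.range γ.hom.left.left ∧ ∃ a b, sApp g₁ E' a - sApp g₂ E' b = ((toAbEt X.obj).obj P).obj.map γ.op r) :
    ∃ h : biprod.lift f₁ f₂ ≫ biprod.desc g₁ (-g₂) = 0, (ShortComplex.mk _ _ h).ShortExact := by
  let f := biprod.lift f₁ f₂
  let g := biprod.desc g₁ (-g₂)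
  have hf₁ : ∀ E x, sApp biprod.fst E (sApp f E x) = sApp f₁ E x := fun E x => by
    rw [sApp_comp, biprod.lift_fst]
  have hf₂ : ∀ E x, sApp biprod.snd E (sApp f E x) = sApp f₂ E x := fun E x => by
    rw [sApp_comp, biprod.lift_snd]
  have hg : ∀ E z, sApp g E z = sApp g₁ E (sApp biprod.fst E z) - sApp g₂ E (sApp biprod.snd E z) := fun E z => by
    rw [sApp_desc, sApp_neg, sub_eq_add_neg]
  have h : f ≫ g = 0 := by
    refine (toAbEt X.obj).map_injective (Sheaf.hom_ext (NatTrans.ext (funext fun E =>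
      AddCommGrpCat.hom_ext (AddMonoidHom.ext fun x => ?_))))
    show sApp g E.unop (sApp f E.unop x) = 0
    rw [hg, hf₁, hf₂, hw, sub_self]
  refine ⟨h, ?_⟩
  haveI : PreservesFiniteColimits (toAbEt X.obj) := preservesFiniteColimits_toSheaf _
  have hS : ((ShortComplex.mk f g h).map (toAbEt X.obj)).ShortExact := by
    refine shortExact_of_sections (fun E x y (hxy : sApp f E x = sApp f E y) => hinj E x y ?_ ?_)
      (fun E y (hy : sApp g E y = 0) => ?_) fun E r => ?_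
    · rw [← hf₁, ← hf₁, hxy]
    · rw [← hf₂, ← hf₂, hxy]
    · obtain ⟨x, hx₁, hx₂⟩ := hmid E _ _ (sub_eq_zero.1 ((hg E y).symm.trans hy))
      exact ⟨x, sApp_biprod_ext E ((hf₁ E x).trans hx₁) ((hf₂ E x).trans hx₂)⟩
    · choose Yc γ ht sU sV hs using hloc E r
      refine GrothendieckTopology.superset_covering _ ?_
        (ofArrows_mem_etTop Yc γ fun t => ⟨t, ht t⟩)
      rw [Sieve.generate_le_iff]
      rintro _ _ ⟨t⟩
      obtain ⟨z, hz₁, hz₂⟩ := exists_sApp_biprod (M := M₁) (N := M₂) (Yc t) (sU t) (sV t)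
      refine ⟨z, (hg _ z).trans ?_⟩
      rw [hz₁, hz₂]
      exact hs t
  haveI : Mono f := (toAbEt X.obj).mono_of_mono_map hS.mono_f
  haveI : Epi g := (toAbEt X.obj).epi_of_epi_map hS.epi_g
  exact { exact := ((ShortComplex.mk f g h).exact_map_iff_of_faithful (toAbEt X.obj)).1 hS.exact }

theorem sApp_unit (U : EtOver X.obj) (F : ModEt X.obj) (E : EtOver X.obj) (x : ((toAbEt X.obj).obj F).obj.obj (op E)) :
    sApp ((resPushAdjEt U).unit.app F) E x = ((toAbEt X.obj).obj F).obj.map (prod.snd : U ⨯ E ⟶ E).op x := rfl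

theorem sApp_pushRes {U' U : EtOver X.obj} (g : U' ⟶ U) (F : ModEt X.obj) (E : EtOver X.obj)
    (x : ((toAbEt X.obj).obj F).obj.obj (op (U ⨯ E))) :
    sApp ((pushResNatTrans g).app F) E x = ((toAbEt X.obj).obj F).obj.map (prod.map g (𝟙 E)).op x := rfl

end

set_option maxHeartbeats 800000 in
include hsq in
/-- The Mayer-Vietoris sequence of direct images. -/
theorem shortExact_pushforward (F : ModEt X.obj) :
    ∃ h : biprod.lift ((resPushAdjEt U).unit.app F) ((resPushAdjEt V).unit.app F) ≫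
        biprod.desc ((pushResNatTrans (EtOver.prodFst U V)).app F)
          (-((pushResNatTrans (EtOver.prodSnd U V)).app F)) = 0,
      (ShortComplex.mk _ _ h).ShortExact :=
  shortExact_biprod_of_sections _ _ _ _
    (fun E x => by
      refine (sApp_pushRes (EtOver.prodFst U V) F E _).trans (Eq.trans ?_ (sApp_pushRes (EtOver.prodSnd U V) F E _).symm)
      refine (map_map ((toAbEt X.obj).obj F) _ _ x).trans (Eq.trans ?_ (map_map ((toAbEt X.obj).obj F) _ _ x).symm)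
      rw [prod.map_snd, prod.map_snd])
    (fun E x y h₁ h₂ => mv_injective hsq ((toAbEt X.obj).obj F) E h₁ h₂)
    (fun E a b h => mv_middle hsq ((toAbEt X.obj).obj F) E a b h)
    (fun E r t => by
      obtain ⟨E', γ, ht, sU, sV, hs⟩ := mv_locally_surjective hsq ((toAbEt X.obj).obj F) E r t
      exact ⟨E', γ, ht, sU, sV, hs⟩)

end Groth.EtVan

end
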