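import Groth.Agent.ModEtQCoh.Vanish.SquareModules
import Groth.Agent.ModEtQCoh.Grothendieck
import Mathlib.CategoryTheory.Adjunction.Mates

/-!
# The Mayer-Vietoris sequence of extensions by zero, by duality
-/

set_option autoImplicit false
set_option backward.isDefEq.respectTransparency.types false
set_option linter.style.haveILetI false
universe u

open CategoryTheory CategoryTheory.Limits AlgebraicGeometry AlgSp Groth.ModEtQCoh

noncomputable section

namespace Groth.EtVan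

section Abstract

variable {C : Type*} [Category C] [Abelian C] [EnoughInjectives C]

/-- A right exact sequence dual to a family of short exact sequences. -/
theorem shortExact_of_dual {R₁ R₂ R₃ L₁ L₂ L₃ : C ⥤ C} [R₃.Additive] (a₁ : L₁ ⊣ R₁) (a₂ : L₂ ⊣ R₂) (a₃ : L₃ ⊣ R₃)
    (u₁ : 𝟭 C ⟶ R₁) (u₂ : 𝟭 C ⟶ R₂) (r₁ : R₁ ⟶ R₃) (r₂ : R₂ ⟶ R₃)
    (hex : ∀ N, ∃ h : biprod.lift (u₁.app N) (u₂.app N) ≫ biprod.desc (r₁.app N) (-(r₂.app N)) = 0,
      (ShortComplex.mk _ _ h).ShortExact)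
    (M : C) (c₁ : L₁.obj M ⟶ M) (c₂ : L₂.obj M ⟶ M) (s₁ : L₃.obj M ⟶ L₁.obj M) (s₂ : L₃.obj M ⟶ L₂.obj M)
    (hc₁ : ∀ {N : C} (m : M ⟶ N), a₁.homEquiv M N (c₁ ≫ m) = m ≫ u₁.app N)
    (hc₂ : ∀ {N : C} (m : M ⟶ N), a₂.homEquiv M N (c₂ ≫ m) = m ≫ u₂.app N)
    (hs₁ : ∀ {N : C} (k : L₁.obj M ⟶ N), a₃.homEquiv M N (s₁ ≫ k) = a₁.homEquiv M N k ≫ r₁.app N)
    (hs₂ : ∀ {N : C} (k : L₂.obj M ⟶ N), a₃.homEquiv M N (s₂ ≫ k) = a₂.homEquiv M N k ≫ r₂.app N) :
    ∃ h : biprod.lift s₁ (-s₂) ≫ biprod.desc c₁ c₂ = 0, (ShortComplex.mk _ _ h).ShortExact := by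
  have h : biprod.lift s₁ (-s₂) ≫ biprod.desc c₁ c₂ = 0 := by
    obtain ⟨w, -⟩ := hex M
    rw [biprod.lift_desc, Preadditive.comp_neg, add_neg_eq_zero] at w
    rw [biprod.lift_desc, Preadditive.neg_comp, add_neg_eq_zero]
    refine (a₃.homEquiv _ _).injective ?_
    rw [hs₁, hs₂, ← Category.comp_id c₁, ← Category.comp_id c₂, hc₁, hc₂, Category.id_comp, Category.id_comp, w]
  refine ⟨h, ?_⟩
  haveI : L₃.Additive := a₃.left_adjoint_additive
  have hker : ∀ {N : C} (k : L₁.obj M ⊞ L₂.obj M ⟶ N), biprod.lift s₁ (-s₂) ≫ k = 0 →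
      s₁ ≫ biprod.inl ≫ k = s₂ ≫ biprod.inr ≫ k := fun k hk => by
    rw [biprod.lift_eq, Preadditive.add_comp, Preadditive.neg_comp, Preadditive.neg_comp, Category.assoc,
      Category.assoc, add_neg_eq_zero] at hk
    exact hk
  have hdesc : ∀ {N : C} (k : L₁.obj M ⊞ L₂.obj M ⟶ N), biprod.lift s₁ (-s₂) ≫ k = 0 →
      ∃! m : M ⟶ N, biprod.desc c₁ c₂ ≫ m = k := fun {N} k hk => by
    obtain ⟨w, hN⟩ := hex N
    haveI := hN.mono_f
    let x := biprod.lift (a₁.homEquiv M N (biprod.inl ≫ k)) (a₂.homEquiv M N (biprod.inr ≫ k))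
    have hx : x ≫ biprod.desc (r₁.app N) (-(r₂.app N)) = 0 := by
      rw [biprod.lift_desc, Preadditive.comp_neg, add_neg_eq_zero, ← hs₁, ← hs₂, hker k hk]
    obtain ⟨m, hm⟩ := KernelFork.IsLimit.lift' hN.fIsKernel x hx
    replace hm : m ≫ biprod.lift (u₁.app N) (u₂.app N) = x := hm
    refine ⟨m, ?_, fun m' hm' => ?_⟩
    · refine biprod.hom_ext' _ _ ?_ ?_
      · refine (a₁.homEquiv _ _).injective ?_
        rw [biprod.inl_desc_assoc, hc₁]
        simpa [x] using hm =≫ biprod.fst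
      · refine (a₂.homEquiv _ _).injective ?_
        rw [biprod.inr_desc_assoc, hc₂]
        simpa [x] using hm =≫ biprod.snd
    · refine (cancel_mono (biprod.lift (u₁.app N) (u₂.app N))).1 (Eq.trans ?_ hm.symm)
      refine biprod.hom_ext _ _ ?_ ?_
      · simp only [x, Category.assoc, biprod.lift_fst, ← hm', biprod.inl_desc_assoc]
        exact (hc₁ m').symm
      · simp only [x, Category.assoc, biprod.lift_snd, ← hm', biprod.inr_desc_assoc]
        exact (hc₂ m').symm
  haveI : Mono (biprod.lift s₁ (-s₂)) := by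
    let I := Injective.under (L₃.obj M)
    obtain ⟨w, hI⟩ := hex I
    haveI := hI.mono_f
    let ι : L₃.obj M ⟶ I := Injective.ι _
    let sp : (ShortComplex.mk _ _ w).Splitting := hI.splittingOfInjective
    let y := a₃.homEquiv M I ι ≫ sp.s
    have hy : y ≫ biprod.desc (r₁.app I) (-(r₂.app I)) = a₃.homEquiv M I ι := by
      show (a₃.homEquiv M I ι ≫ sp.s) ≫ (ShortComplex.mk _ _ w).g = _
      rw [Category.assoc, sp.s_g]
      exact Category.comp_id _
    let k := biprod.desc ((a₁.homEquiv M I).symm (y ≫ biprod.fst)) ((a₂.homEquiv M I).symm (y ≫ biprod.snd))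
    have hk : biprod.lift s₁ (-s₂) ≫ k = ι := by
      refine (a₃.homEquiv M I).injective ?_
      rw [biprod.lift_desc, Preadditive.neg_comp, ← sub_eq_add_neg]
      refine (map_sub ((a₃.homAddEquiv M I)) _ _).trans ?_
      show a₃.homEquiv M I (s₁ ≫ _) - a₃.homEquiv M I (s₂ ≫ _) = _
      rw [hs₁, hs₂, Equiv.apply_symm_apply, Equiv.apply_symm_apply, ← hy]
      simp [biprod.desc_eq, sub_eq_add_neg]
    haveI : Mono (biprod.lift s₁ (-s₂) ≫ k) := hk.symm ▸ (inferInstance : Mono ι)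
    exact mono_of_mono _ k
  haveI : Epi (biprod.desc c₁ c₂) := by
    rw [Preadditive.epi_iff_cancel_zero]
    intro N g hg
    exact (hdesc 0 comp_zero).unique hg comp_zero
  exact { exact := ShortComplex.exact_of_g_is_cokernel _ (CokernelCofork.IsColimit.ofπ' _ _
    fun k hk => ⟨(hdesc k hk).choose, (hdesc k hk).choose_spec.1⟩) }

end Abstract

variable {S : Scheme.{u}} {X : AlgSp.Space S}

theorem homEquiv_counit_comp (U : EtOver X.obj) [(resModEt U).IsRightAdjoint] {F N : ModEt X.obj} (m : F ⟶ N) :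
    (shriekResAdj U).homEquiv F N ((Adjunction.ofIsRightAdjoint (resModEt U)).counit.app F ≫ m) =
      m ≫ (resPushAdjEt U).unit.app N := by
  rw [shriekResAdj, Adjunction.comp_homEquiv]
  have e : (Adjunction.ofIsRightAdjoint (resModEt U)).homEquiv ((resModEt U).obj F) N
      ((Adjunction.ofIsRightAdjoint (resModEt U)).counit.app F ≫ m) = (resModEt U).map m := by
    rw [Adjunction.homEquiv_unit, Functor.map_comp, ← Category.assoc, Adjunction.right_triangle_components,
      Category.id_comp]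
  refine (congrArg ((resPushAdjEt U).homEquiv F ((resModEt U).obj N)) e).trans ?_
  rw [Adjunction.homEquiv_unit]
  exact ((resPushAdjEt U).unit.naturality m).symm

theorem homEquiv_conj_comp {U' U : EtOver X.obj} (g : U' ⟶ U) [(resModEt U).IsRightAdjoint]
    [(resModEt U').IsRightAdjoint] {F N : ModEt X.obj} (k : (shriekRes U).obj F ⟶ N) :
    (shriekResAdj U').homEquiv F N ((shriekResNatTrans g).app F ≫ k) =
      (shriekResAdj U).homEquiv F N k ≫ (pushResNatTrans g).app N := by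
  rw [Adjunction.homEquiv_unit, Adjunction.homEquiv_unit, Functor.map_comp, Category.assoc,
    (pushResNatTrans g).naturality, ← Category.assoc, ← Category.assoc]
  congr 1
  exact (unit_conjugateEquiv_symm (shriekResAdj U) (shriekResAdj U') (pushResNatTrans g) F).symm

end Groth.EtVan

end
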