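import Groth.Agent.ModEtQCoh.Exact

/-!
# Cech cochains of presheaves on finite affine families of the small etale site
-/

set_option autoImplicit false
set_option backward.isDefEq.respectTransparency.types false
set_option linter.style.haveILetI false
universe u

open CategoryTheory CategoryTheory.Limits AlgebraicGeometry Opposite AlgSp Groth.ModEtQCoh

namespace Groth.EtVan

variable {S : Scheme.{u}} {X : Sp S} {E : EtOver X} {κ : Type} {Z : κ → EtOver X}

/-- A map into a member of the family. -/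
abbrev Leg (Z : κ → EtOver X) (W : EtOver X) : Type u := Σ k, (W ⟶ Z k)

/-- The composite with the family. -/
abbrev base (a : ∀ k, Z k ⟶ E) {W : EtOver X} (l : Leg Z W) : W ⟶ E := l.2 ≫ a l.1

/-- Compatible tuples of maps into the family. -/
abbrev Fam (a : ∀ k, Z k ⟶ E) (n : ℕ) (W : EtOver X) : Type u :=
  {y : Fin (n + 1) → Leg Z W // ∀ i, base a (y i) = base a (y 0)}

variable {a : ∀ k, Z k ⟶ E} {n : ℕ}

/-- Composition of a tuple with a map. -/
def tcomp {W W' : EtOver X} (h : W' ⟶ W) (y : Fam a n W) : Fam a n W' :=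
  ⟨fun i => ⟨(y.1 i).1, h ≫ (y.1 i).2⟩, fun i =>
    (Category.assoc _ _ _).trans ((congrArg (h ≫ ·) (y.2 i)).trans (Category.assoc _ _ _).symm)⟩

/-- Omission of one entry. -/
def face {W : EtOver X} (y : Fam a (n + 1) W) (i : Fin (n + 2)) : Fam a n W :=
  ⟨fun j => y.1 (i.succAbove j), fun j => (y.2 _).trans (y.2 _).symm⟩

theorem tcomp_face {W W' : EtOver X} (h : W' ⟶ W) (y : Fam a (n + 1) W) (i : Fin (n + 2)) :
    tcomp h (face y i) = face (tcomp h y) i := rfl

/-- Prepending one entry. -/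
def tcons {W : EtOver X} (l : Leg Z W) (y : Fam a n W) (h : base a l = base a (y.1 0)) : Fam a (n + 1) W :=
  ⟨Fin.cons l y.1, fun i => by
    refine Fin.cases ?_ (fun j => ?_) i
    · rfl
    · rw [Fin.cons_succ, Fin.cons_zero, h]
      exact y.2 j⟩

theorem face_tcons_zero {W : EtOver X} (l : Leg Z W) (y : Fam a n W) (h : base a l = base a (y.1 0)) :
    face (tcons l y h) 0 = y :=
  Subtype.ext (funext fun j => by simp [face, tcons, Fin.succAbove_zero])

theorem face_tcons_succ {W : EtOver X} (l : Leg Z W) (y : Fam a (n + 1) W) (h : base a l = base a (y.1 0))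
    (i : Fin (n + 2)) :
    face (tcons l y h) i.succ = tcons l (face y i) (h.trans (y.2 _).symm) :=
  Subtype.ext (funext fun j => by
    refine Fin.cases ?_ (fun k => ?_) j <;> simp [face, tcons])

theorem tcomp_tcons {W W' : EtOver X} (g : W' ⟶ W) (l : Leg Z W) (y : Fam a n W)
    (h : base a l = base a (y.1 0)) :
    tcomp g (tcons l y h) = tcons ⟨l.1, g ≫ l.2⟩ (tcomp g y) (by
      show (g ≫ l.2) ≫ a l.1 = (g ≫ (y.1 0).2) ≫ a (y.1 0).1
      rw [Category.assoc, Category.assoc]
      exact congrArg (g ≫ ·) h) :=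
  Subtype.ext (funext fun j => by
    refine Fin.cases ?_ (fun k => ?_) j <;> rfl)

/-- Natural cochains. -/
@[ext]
structure Cochain (F : (EtOver X)ᵒᵖ ⥤ AddCommGrpCat.{u + 1}) (a : ∀ k, Z k ⟶ E) (n : ℕ) where
  val : ∀ W, Fam a n W → F.obj (op W)
  nat : ∀ {W W' : EtOver X} (h : W' ⟶ W) (y : Fam a n W), F.map h.op (val W y) = val W' (tcomp h y)

variable {F G : (EtOver X)ᵒᵖ ⥤ AddCommGrpCat.{u + 1}}

/-- The differential. -/
def dVal (δ : Cochain F a n) (W : EtOver X) (y : Fam a (n + 1) W) : F.obj (op W) :=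
  ∑ i : Fin (n + 2), (-1 : ℤ) ^ (i : ℕ) • δ.val W (face y i)

theorem dVal_nat (δ : Cochain F a n) {W W' : EtOver X} (h : W' ⟶ W) (y : Fam a (n + 1) W) :
    F.map h.op (dVal δ W y) = dVal δ W' (tcomp h y) := by
  simp only [dVal, map_sum, map_zsmul, δ.nat, tcomp_face]

/-- Cocycles. -/
def IsCocycle (δ : Cochain F a n) : Prop := ∀ W y, dVal δ W y = 0

/-- Coboundaries. -/
def IsCoboundary (δ : Cochain F a (n + 1)) : Prop := ∃ b : Cochain F a n, ∀ W y, dVal b W y = δ.val W y

/-- Exactness in positive degrees. -/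
def IsExact (F : (EtOver X)ᵒᵖ ⥤ AddCommGrpCat.{u + 1}) (a : ∀ k, Z k ⟶ E) (n : ℕ) : Prop :=
  ∀ δ : Cochain F a (n + 1), IsCocycle δ → IsCoboundary δ

/-- Exactness on all finite affine families covering affine objects. -/
def CechAcyclic (F : (EtOver X)ᵒᵖ ⥤ AddCommGrpCat.{u + 1}) : Prop :=
  ∀ (E : EtOver X) [IsAffine E.obj.left.left] (m : ℕ) (Z : Fin m → EtOver X)
    [∀ k, IsAffine (Z k).obj.left.left] (a : ∀ k, Z k ⟶ E), JointlySurj a → ∀ n, IsExact F a n

/-- Image of a cochain. -/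
def cmap (φ : F ⟶ G) (δ : Cochain F a n) : Cochain G a n where
  val W y := φ.app (op W) (δ.val W y)
  nat {W W'} h y := by
    rw [← δ.nat h y]
    exact (ConcreteCategory.congr_hom (φ.naturality h.op) (δ.val W y)).symm

theorem dVal_cmap (φ : F ⟶ G) (δ : Cochain F a n) (W : EtOver X) (y : Fam a (n + 1) W) :
    dVal (cmap φ δ) W y = φ.app (op W) (dVal δ W y) := by
  simp only [dVal, map_sum, map_zsmul]
  rfl

theorem isExact_retract (i : F ⟶ G) (r : G ⟶ F) (h : i ≫ r = 𝟙 F) (hG : IsExact G a n) : IsExact F a n := by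
  intro δ hδ
  obtain ⟨b, hb⟩ := hG (cmap i δ) fun W y => by rw [dVal_cmap, hδ W y, map_zero]
  refine ⟨cmap r b, fun W y => ?_⟩
  rw [dVal_cmap, hb W y]
  exact ConcreteCategory.congr_hom (congrArg (fun t => t.app (op W)) h) (δ.val W y)

/-- A differential of a differential vanishes. -/
theorem dVal_dVal (δ : Cochain F a n) (W : EtOver X) (y : Fam a (n + 2) W) :
    ∑ i : Fin (n + 3), (-1 : ℤ) ^ (i : ℕ) • dVal δ W (face y i) = 0 := by
  simp only [dVal, Finset.smul_sum, smul_smul, ← pow_add]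
  rw [← Fintype.sum_prod_type']
  let T := Finset.univ.filter fun ij : Fin (n + 3) × Fin (n + 2) => (ij.2 : ℕ) < (ij.1 : ℕ)
  rw [← Finset.sum_add_sum_compl T, ← eq_neg_iff_add_eq_zero, ← Finset.sum_neg_distrib]
  refine Finset.sum_bij (fun ij hij => (ij.2.castSucc, ij.1.pred (fun h => by
      have := (Finset.mem_filter.1 hij).2; simp [h] at this)))
    (fun ij hij => ?_) (fun a ha b hb h => ?_) (fun b hb => ?_) (fun ij hij => ?_)
  · have := (Finset.mem_filter.1 hij).2
    simp only [T, Finset.mem_compl, Finset.mem_filter, Finset.mem_univ, true_and, not_lt, Fin.val_pred,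
      Fin.val_castSucc]
    omega
  · simp only [Prod.mk.injEq, Fin.ext_iff, Fin.val_castSucc, Fin.val_pred] at h
    have := (Finset.mem_filter.1 ha).2
    have := (Finset.mem_filter.1 hb).2
    exact Prod.ext (Fin.ext (by omega)) (Fin.ext h.1)
  · simp only [T, Finset.mem_compl, Finset.mem_filter, Finset.mem_univ, true_and, not_lt] at hb
    refine ⟨(b.2.succ, ⟨b.1, by have := b.2.isLt; omega⟩), ?_, ?_⟩
    · simp only [T, Finset.mem_filter, Finset.mem_univ, true_and, Fin.val_succ]
      omega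
    · exact Prod.ext (Fin.ext rfl) (Fin.ext (by simp))
  · obtain ⟨i, j⟩ := ij
    have hlt := (Finset.mem_filter.1 hij).2
    simp only at hlt
    have he : face (face y i) j = face (face y j.castSucc) (i.pred (fun h => by simp [h] at hlt)) := by
      refine Subtype.ext (funext fun k => congrArg y.1 (Fin.ext ?_))
      simp only [Fin.succAbove, Fin.lt_def, Fin.val_castSucc, Fin.val_pred]
      split_ifs <;> simp only [Fin.val_succ, Fin.val_castSucc] at * <;> omega
    rw [he, ← neg_zsmul]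
    congr 1
    simp only [Fin.val_castSucc, Fin.val_pred]
    rw [show (i : ℕ) + j = (j + ((i : ℕ) - 1)) + 1 by omega, pow_succ, mul_neg, mul_one]

/-- The product over the base of finitely many members of the family. -/
theorem exists_univ [IsAffine E.obj.left.left] [∀ k, IsAffine (Z k).obj.left.left] :
    ∀ (m : ℕ) (c : Fin m → κ), ∃ (U : EtOver X) (d : U ⟶ E) (p : ∀ i, U ⟶ Z (c i)), IsAffine U.obj.left.left ∧
      (∀ i, p i ≫ a (c i) = d) ∧ ∀ (W : EtOver X) (χ : W ⟶ E) (q : ∀ i, W ⟶ Z (c i)),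
        (∀ i, q i ≫ a (c i) = χ) → ∃! g : W ⟶ U, g ≫ d = χ ∧ ∀ i, g ≫ p i = q i := by
  intro m
  induction m with
  | zero =>
    exact fun c => ⟨E, 𝟙 E, fun i => i.elim0, ‹_›, fun i => i.elim0, fun W χ q _ =>
      ⟨χ, ⟨Category.comp_id _, fun i => i.elim0⟩, fun g hg => (Category.comp_id g).symm.trans hg.1⟩⟩
  | succ m ih =>
    intro c
    obtain ⟨U, d, p, hU, hp, huniv⟩ := ih (fun i => c i.succ)
    haveI := hU
    refine ⟨EtOver.pullbackObj (a (c 0)) d, EtOver.pullbackSnd (a (c 0)) d ≫ d,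
      fun i => Fin.cases (motive := fun i => EtOver.pullbackObj (a (c 0)) d ⟶ Z (c i))
        (EtOver.pullbackFst (a (c 0)) d) (fun j => EtOver.pullbackSnd (a (c 0)) d ≫ p j) i,
      isAffine_pullbackObj _ _, fun i => ?_, fun W χ q hq => ?_⟩
    · refine Fin.cases ?_ (fun j => ?_) i
      · exact EtOver.pullback_condition _ _
      · simp only [Fin.cases_succ, Category.assoc, hp]
    · obtain ⟨g₀, hg₀, hu⟩ := huniv W χ (fun j => q j.succ) fun j => hq j.succ
      have w : q 0 ≫ a (c 0) = g₀ ≫ d := by rw [hq, hg₀.1]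
      refine ⟨(EtOver.isPullback (a (c 0)) d).lift _ _ w, ⟨?_, fun i => ?_⟩, fun g hg => ?_⟩
      · rw [← Category.assoc, (EtOver.isPullback (a (c 0)) d).lift_snd _ _ w, hg₀.1]
      · refine Fin.cases ?_ (fun j => ?_) i
        · exact (EtOver.isPullback (a (c 0)) d).lift_fst _ _ w
        · simp only [Fin.cases_succ]
          rw [← Category.assoc, (EtOver.isPullback (a (c 0)) d).lift_snd _ _ w, hg₀.2]
      · refine (EtOver.isPullback (a (c 0)) d).hom_ext ?_ ?_
        · rw [(EtOver.isPullback (a (c 0)) d).lift_fst _ _ w]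
          exact hg.2 0
        · rw [(EtOver.isPullback (a (c 0)) d).lift_snd _ _ w]
          refine hu _ ⟨?_, fun j => ?_⟩
          · rw [Category.assoc]; exact hg.1
          · rw [Category.assoc]; simpa using hg.2 j.succ

/-- Chosen universal tuples. -/
structure UnivData (a : ∀ k, Z k ⟶ E) (n : ℕ) where
  obj : (Fin (n + 1) → κ) → EtOver X
  str : ∀ c, obj c ⟶ E
  affine : ∀ c, IsAffine (obj c).obj.left.left
  tup : ∀ c, Fam a n (obj c)
  tup_fst : ∀ c i, ((tup c).1 i).1 = c i
  tup_base : ∀ c, base a ((tup c).1 0) = str c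
  lift : ∀ {W : EtOver X} (y : Fam a n W), W ⟶ obj fun i => (y.1 i).1
  lift_tup : ∀ {W : EtOver X} (y : Fam a n W), tcomp (lift y) (tup _) = y
  hom_ext : ∀ {W : EtOver X} (c : Fin (n + 1) → κ) {g g' : W ⟶ obj c}, tcomp g (tup c) = tcomp g' (tup c) → g = g'

theorem nonempty_univData [IsAffine E.obj.left.left] [∀ k, IsAffine (Z k).obj.left.left] (n : ℕ) :
    Nonempty (UnivData a n) := by
  choose U d p hU hp huniv using exists_univ (a := a) (n + 1)
  let tup : ∀ c, Fam a n (U c) := fun c => ⟨fun i => ⟨c i, p c i⟩, fun i => (hp c i).trans (hp c 0).symm⟩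
  refine ⟨⟨U, d, hU, tup, fun _ _ => rfl, fun c => hp c 0,
    fun {W} y => (huniv (fun i => (y.1 i).1) W (base a (y.1 0)) (fun i => (y.1 i).2) y.2).exists.choose,
    fun {W} y => ?_, fun {W} c g g' h => ?_⟩⟩
  · refine Subtype.ext (funext fun i => ?_)
    show (⟨_, _⟩ : Leg Z W) = _
    rw [(huniv (fun i => (y.1 i).1) W (base a (y.1 0)) (fun i => (y.1 i).2) y.2).exists.choose_spec.2 i]
  · have h' : ∀ i, g' ≫ p c i = g ≫ p c i := fun i =>
      eq_of_heq (Sigma.mk.inj_iff.1 (congrFun (congrArg Subtype.val h) i)).2.symm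
    refine (huniv c W (g ≫ d c) (fun i => g ≫ p c i) fun i => by rw [Category.assoc, hp]).unique
      ⟨rfl, fun i => rfl⟩ ⟨?_, h'⟩
    rw [← hp c 0, ← Category.assoc, h' 0, Category.assoc]

/-- A cochain from its values on universal tuples. -/
def ofVals (D : UnivData a n) (x : ∀ c, F.obj (op (D.obj c))) : Cochain F a n where
  val W y := F.map (D.lift y).op (x _)
  nat {W W'} h y := by
    have e : h ≫ D.lift y = D.lift (tcomp h y) :=
      D.hom_ext _ ((show tcomp (h ≫ D.lift y) (D.tup _) = tcomp h (tcomp (D.lift y) (D.tup _)) from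
        Subtype.ext (funext fun i => by simp [tcomp])).trans
        ((congrArg (tcomp h) (D.lift_tup y)).trans (D.lift_tup (tcomp h y)).symm))
    rw [← ConcreteCategory.comp_apply, ← F.map_comp, ← op_comp]
    exact congrArg (fun g => (F.map (Quiver.Hom.op g)) (x fun i => (y.1 i).1)) e

theorem val_eq_lift (D : UnivData a n) (δ : Cochain F a n) {W : EtOver X} (y : Fam a n W) :
    δ.val W y = F.map (D.lift y).op (δ.val _ (D.tup _)) := by
  rw [δ.nat, D.lift_tup]

theorem eq_of_univ (D : UnivData a (n + 1)) {b : Cochain F a n} {δ : Cochain F a (n + 1)}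
    (h : ∀ c, dVal b _ (D.tup c) = δ.val _ (D.tup c)) (W : EtOver X) (y : Fam a (n + 1) W) :
    dVal b W y = δ.val W y := by
  rw [val_eq_lift D δ y, ← h, dVal_nat, D.lift_tup]

end Groth.EtVan
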